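import Cfsg.Agent.ThreeSizes.Anti
import Cfsg.Agent.S4033
import Mathlib

/-!
Ito's theorem: exactly three class sizes implies soluble.
-/

set_option autoImplicit false
set_option linter.unusedSectionVars false

namespace Cfsg.Agent.ThreeSizes

open Subgroup
open GroupStructure3.ClassGraph (cs centralizer_mul_eq)
open GStructB.TwoSizes (cent IsL mem_cent self_mem_cent isL_of_mem coprime_of_isL)
open ClassRankThree (AbCent cent_eq_of_cs_eq)

universe u

variable {G : Type u} [Group G] [Finite G]

/-- The sizes are `n` and `n * m`. -/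
structure Div (G : Type u) [Group G] (n m : ℕ) : Prop where
  hns : ¬ Group.IsSolvable G
  npos : 1 < n
  mpos : 1 < m
  vals : ∀ x : G, x ∉ center G → cs x = n ∨ cs x = n * m

namespace Div

variable {n m : ℕ} (H : Div G n m)
include H

theorem dvd_cs {x : G} (hx : x ∉ center G) : n ∣ cs x := by
  rcases H.vals x hx with h | h <;> rw [h]
  exact dvd_mul_right n m

theorem eq_n {x y : G} (hx : cs x = n) (hy : y ∉ center G) (hle : cent x ≤ cent y) :
    cent x = cent y := by
  refine cent_eq_of_cs_eq hle ?_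
  rcases H.vals y hy with h | h
  · rw [hx, h]
  · exfalso
    have h1 : cs y ∣ cs x := index_dvd_of_le hle
    rw [h, hx] at h1
    have h2 := Nat.le_of_dvd (by have := H.npos; omega) h1
    have h3 := Nat.mul_lt_mul_of_pos_left H.mpos (by have := H.npos; omega : 0 < n)
    omega

/-- A noncentral element of coprime order in the centraliser of an element of the small size. -/
theorem primes_of {p q : ℕ} (hp : p.Prime) (hq : q.Prime) (hqp : q ≠ p) {x v : G} (hx : IsL p x)
    (hxn : cs x = n) (hv : IsL q v) (hvx : v ∈ cent x) (hvc : ¬ cent x ≤ cent v) {d : ℕ}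
    (hd : d.Prime) (hdm : d ∣ m) : d = p ∨ d = q := by
  have := Fact.mk hp
  have hxc : x ∉ center G := fun h => by
    have := GroupStructure3.ClassGraph.cs_eq_one_iff.2 h
    have := H.npos
    omega
  set K := cent x with hK
  have hidx : ∀ h : K, (orderOf h).Coprime p →
      (centralizer ({h} : Set K)).index = 1 ∨ (centralizer ({h} : Set K)).index = m := by
    intro h hh
    have hcomm : Commute x (h : G) := (mem_cent.1 h.2).symm
    have hco : (orderOf x).Coprime (orderOf (h : G)) := by
      obtain ⟨i, hi⟩ := hx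
      rw [hi, Subgroup.orderOf_coe]
      exact Nat.Coprime.pow_left i hh.symm
    have e1 : centralizer ({h} : Set K) = (cent (x * (h : G))).subgroupOf K := by
      rw [show cent (x * (h : G)) = cent x ⊓ cent (h : G) from centralizer_mul_eq hcomm hco]
      ext w
      simp only [mem_subgroupOf, mem_inf, mem_centralizer_singleton_iff]
      exact ⟨fun e => ⟨mem_centralizer_singleton_iff.1 w.2, congrArg Subtype.val e⟩,
        fun e => Subtype.ext e.2⟩
    have e2 : (centralizer ({h} : Set K)).index * n = cs (x * (h : G)) := by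
      rw [e1, ← hxn]
      exact relIndex_mul_index (H := cent (x * (h : G))) (K := K)
        ((centralizer_mul_eq hcomm hco).le.trans inf_le_left)
    rcases H.vals _ (notMem_center_mul hxc hcomm hco) with h' | h' <;> rw [h'] at e2
    · exact Or.inl (Nat.eq_of_mul_eq_mul_right (by have := H.npos; omega)
        (e2.trans (one_mul n).symm))
    · exact Or.inr (Nat.eq_of_mul_eq_mul_right (by have := H.npos; omega)
        (e2.trans (mul_comm n m)))
  set v' : K := ⟨v, hvx⟩ with hv'
  have hv'o : (orderOf v').Coprime p := by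
    obtain ⟨j, hj⟩ := hv
    rw [← Subgroup.orderOf_coe, hv', Subgroup.coe_mk, hj]
    exact Nat.Coprime.pow_left j ((Nat.coprime_primes hq hp).2 hqp)
  have hv'c : v' ∉ center K := fun h => hvc fun b hb => mem_cent.2
    (congrArg Subtype.val (mem_center_iff.1 h ⟨b, hb⟩))
  have hv'i : (centralizer ({v'} : Set K)).index = m := (hidx v' hv'o).resolve_left fun h =>
    hv'c (GroupStructure3.ClassGraph.cs_eq_one_iff.1 h)
  have h2 : Set.ncard (Set.range fun x : {x : K // (orderOf x).Coprime p} =>
      (ConjClasses.mk (x : K)).carrier.ncard) = 2 := by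
    rw [show (Set.range fun x : {x : K // (orderOf x).Coprime p} =>
      (ConjClasses.mk (x : K)).carrier.ncard) = {1, m} from ?_]
    · exact Set.ncard_pair (by have := H.mpos; omega)
    refine Set.Subset.antisymm ?_ ?_
    · rintro _ ⟨⟨h, hh⟩, rfl⟩
      simp only [GStructClassType.ncard_carrier]
      exact hidx h hh
    · rintro _ (rfl | rfl)
      · refine ⟨⟨1, by simp⟩, ?_⟩
        simp only [GStructClassType.ncard_carrier]
        exact GroupStructure3.ClassGraph.cs_eq_one_iff.2 (one_mem _)
      · refine ⟨⟨v', hv'o⟩, ?_⟩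
        simp only [GStructClassType.ncard_carrier]
        exact hv'i
  rcases Cfsg.Agent.S4033.result hp h2 with ⟨A, hAc, hAp, k, hAk⟩ | ⟨q', hq', P, Q, A, hq'p, hAZ, hW, hWn, -, hWA⟩
  · -- an abelian complement
    have hexA : ∃ a ∈ A, a ∉ center K := by
      by_contra hno
      push Not at hno
      have hAn : A.Normal := ⟨fun a ha g => by
        rwa [mem_center_iff.1 (hno a ha) g, mul_inv_cancel_right]⟩
      refine hv'c (hno v' ?_)
      rw [← QuotientGroup.eq_one_iff, ← orderOf_eq_one_iff]
      refine Nat.eq_one_of_dvd_coprimes (hv'o.pow_right k)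
        (orderOf_map_dvd (QuotientGroup.mk' A) v') ?_
      rw [← hAk, index_eq_card]
      exact orderOf_dvd_natCard _
    obtain ⟨a, haA, hac⟩ := hexA
    have hao : (orderOf a).Coprime p := ((hp.coprime_iff_not_dvd.2 hAp).coprime_dvd_right
      (Subgroup.orderOf_dvd_natCard A haA)).symm
    have hai : (centralizer ({a} : Set K)).index = m := (hidx a hao).resolve_left fun h =>
      hac (GroupStructure3.ClassGraph.cs_eq_one_iff.1 h)
    have hle : A ≤ centralizer ({a} : Set K) := fun b hb => mem_centralizer_singleton_iff.2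
      (congrArg Subtype.val (hAc.1.1 ⟨b, hb⟩ ⟨a, haA⟩))
    have hdk : d ∣ p ^ k := hdm.trans (hai ▸ hAk ▸ index_dvd_of_le hle)
    exact Or.inl ((Nat.prime_dvd_prime_iff_eq hd hp).1 (hd.dvd_of_dvd_pow hdk))
  · -- a product of two Sylow subgroups
    have hAn : A.Normal := ⟨fun a ha g => by
      rwa [mem_center_iff.1 (hAZ ha) g, mul_inv_cancel_right]⟩
    set W := (P : Subgroup K) ⊔ (Q : Subgroup K)
    have hAW : A.index ∣ Nat.card W := by
      rw [index_eq_card]
      refine card_dvd_of_surjective ((QuotientGroup.mk' A).comp W.subtype) fun y => ?_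
      obtain ⟨g, rfl⟩ := QuotientGroup.mk'_surjective A y
      obtain ⟨w, hw, a, ha, rfl⟩ := mem_sup_of_normal_left.1 (show g ∈ W ⊔ A from hWA ▸ mem_top g)
      refine ⟨⟨w, hw⟩, ?_⟩
      rw [map_mul, show QuotientGroup.mk' A a = 1 from (QuotientGroup.eq_one_iff a).2 ha, mul_one]
      rfl
    rw [P.card_eq_multiplicity, Q.card_eq_multiplicity] at hW
    rw [hW] at hAW
    have hkey : ∀ {l : ℕ}, l.Prime → l ∣ A.index → l = p ∨ l = q' := by
      intro l hl hlA
      rcases hl.dvd_mul.1 (hlA.trans hAW) with h | h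
      · exact Or.inl ((Nat.prime_dvd_prime_iff_eq hl hp).1 (hl.dvd_of_dvd_pow h))
      · exact Or.inr ((Nat.prime_dvd_prime_iff_eq hl hq'.out).1 (hl.dvd_of_dvd_pow h))
    have hqq : q = q' := by
      refine (hkey hq ?_).resolve_left hqp
      obtain ⟨j, hj⟩ := hv
      have hne : (v' : K ⧸ A) ≠ 1 := fun e => hv'c (hAZ ((QuotientGroup.eq_one_iff v').1 e))
      obtain ⟨i, -, hi⟩ := (Nat.dvd_prime_pow hq).1 (show orderOf (v' : K ⧸ A) ∣ q ^ j by
        have := orderOf_map_dvd (QuotientGroup.mk' A) v'
        rwa [← Subgroup.orderOf_coe v', hv', Subgroup.coe_mk, hj] at this)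
      have hi0 : i ≠ 0 := fun e => hne (orderOf_eq_one_iff.1 (by rw [hi, e, pow_zero]))
      rw [index_eq_card]
      exact (dvd_pow_self q hi0).trans (hi ▸ orderOf_dvd_natCard _)
    rw [hqq]
    refine hkey hd (hdm.trans (hv'i ▸ index_dvd_of_le fun a ha => mem_centralizer_singleton_iff.2 ?_))
    exact (mem_center_iff.1 (hAZ ha) v').symm

/-- Every prime of the central quotient divides the small size, unless it divides the quotient. -/
theorem dvd_n {l : ℕ} (hl : Pr G l) (hlm : ¬ l ∣ m) : l ∣ n := by
  have := Fact.mk hl.1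
  by_contra hln
  have hall : ∀ g : G, ¬ l ∣ cs g := by
    intro g hd
    by_cases hg : g ∈ center G
    · rw [GroupStructure3.ClassGraph.cs_eq_one_iff.2 hg] at hd
      exact hl.1.not_dvd_one hd
    · rcases H.vals g hg with h | h <;> rw [h] at hd
      · exact hln hd
      · exact (hl.1.dvd_mul.1 hd).elim hln hlm
  obtain ⟨S⟩ : Nonempty (Sylow l G) := inferInstance
  have htop := BlocksChars.ItoPSolvable.eq_top_of_conj_cover (centralizer ((S : Subgroup G) : Set G))
    fun g => by
      obtain ⟨d, hd⟩ := ClassRankThree.exists_conj_centralising (hall g) S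
      refine ⟨d⁻¹, mem_centralizer_iff.2 fun x hx => ?_⟩
      rw [inv_inv]
      exact (mem_cent.1 (hd hx)).eq
  exact S.not_dvd_index (hl.2.trans (index_dvd_of_le fun x hx => mem_center_iff.2 fun g =>
    (mem_centralizer_iff.1 (htop ▸ mem_top g) x hx).symm))

/-- The ratio of the sizes is not a prime power. -/
theorem not_primePow {p : ℕ} (hp : p.Prime) (hm : ∀ d, d.Prime → d ∣ m → d = p) : False := by
  have hpm : p ∣ m := by
    obtain ⟨d, hd, hdm⟩ := Nat.exists_prime_and_dvd (show m ≠ 1 by have := H.mpos; omega)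
    exact hm d hd hdm ▸ hdm
  have hC1 : ∀ {l q : ℕ}, l.Prime → q.Prime → l ≠ p → q ≠ p → q ≠ l → ∀ {x v : G}, IsL l x →
      x ∉ center G → IsL q v → v ∈ cent x → cent x ≤ cent v := by
    intro l q hl hq hlp hqp hql x v hx hxc hv hvx
    rcases H.vals x hxc with h | h
    · by_contra hno
      exact (H.primes_of hl hq hql hx h hv hvx hno hp hpm).elim hlp.symm hqp.symm
    · have hcomm : Commute x v := (mem_cent.1 hvx).symm
      have hco := coprime_of_isL hl hq hql.symm hx hv
      have e := centralizer_mul_eq hcomm hco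
      have hxv : cent (x * v) ≤ cent x := e.le.trans inf_le_left
      have hval : cs (x * v) = n * m := by
        rcases H.vals _ (notMem_center_mul hxc hcomm hco) with h' | h'
        · exfalso
          have h1 : cs x ∣ cs (x * v) := index_dvd_of_le hxv
          rw [h, h'] at h1
          have h2 := Nat.le_of_dvd (by have := H.npos; omega) h1
          have h3 := Nat.mul_lt_mul_of_pos_left H.mpos (by have := H.npos; omega : 0 < n)
          omega
        · exact h'
      rw [← cent_eq_of_cs_eq hxv (hval.trans h.symm)]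
      exact e.le.trans inf_le_right
  have heq : ∀ {l q : ℕ}, l.Prime → q.Prime → l ≠ p → q ≠ p → q ≠ l → ∀ {x v : G}, IsL l x →
      x ∉ center G → IsL q v → v ∉ center G → v ∈ cent x → cent x = cent v := by
    intro l q hl hq hlp hqp hql x v hx hxc hv hvc hvx
    exact le_antisymm (hC1 hl hq hlp hqp hql hx hxc hv hvx)
      (hC1 hq hl hqp hlp hql.symm hv hvc hx (mem_cent.2 (mem_cent.1 hvx).symm))
  have hhas : ∀ {s : ℕ}, Pr G s → s ≠ p → ∀ g : G, g ∉ center G → Has g s := by
    intro s hs hsp g hg
    obtain ⟨w, hw, hwc⟩ := hs.exists_isL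
    have hww : Has w s := ⟨w, self_mem_cent w, hw, hwc⟩
    rcases H.vals g hg with h | h
    · exact hww.of_dvd hs.1 (h ▸ H.dvd_cs hwc)
    rcases H.vals w hwc with h' | h'
    swap
    · exact hww.of_dvd hs.1 (by rw [h, h'])
    rw [has_iff hs.1] at hww ⊢
    have h1 := ClassRankThree.card_cent_mul_cs g
    rw [h, ← ClassRankThree.card_cent_mul_cs w, h', ← mul_assoc, mul_comm _ n, mul_assoc] at h1
    have h2 : Nat.card (cent g) * m = Nat.card (cent w) := by
      have h3 : n * (Nat.card (cent g) * m) = n * Nat.card (cent w) := by linarith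
      exact Nat.eq_of_mul_eq_mul_left (by have := H.npos; omega) h3
    convert hww using 1
    show _ = _
    unfold GStructB.TwoSizes.lp
    rw [← h2, Nat.factorization_mul Nat.card_pos.ne' (by have := H.mpos; omega),
      Finsupp.coe_add, Pi.add_apply, Nat.factorization_eq_zero_of_not_dvd fun hd => hsp (hm s hs.1 hd),
      add_zero]
  obtain ⟨l, hl, hlp, -⟩ := exists_third H.hns hp hp
  obtain ⟨s, hs, hsp, hsl⟩ := exists_third H.hns hp hl.1
  obtain ⟨x, hx, hxc⟩ := hl.exists_isL
  obtain ⟨u, hux, hu, huc⟩ := hhas hs hsp x hxc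
  have e : cent x = cent u := heq hl.1 hs.1 hlp hsp hsl hx hxc hu huc hux
  have hdvd : ∀ {q : ℕ}, Pr G q → q ≠ p → q ∣ cs x := fun hq hqp =>
    (H.dvd_n hq fun h => hqp (hm _ hq.1 h)).trans (H.dvd_cs hxc)
  refine no_two hl.1 hs.1 hsl.symm (D := cent x) (fun w hw hwl hwc => ?_) (fun w hw hws hwc => ?_)
    ⟨x, self_mem_cent x, hx, hxc⟩ ⟨u, hux, hu, huc⟩ (hdvd hl hlp) (hdvd hs hsp)
  · rw [e]
    exact (heq hs.1 hl.1 hsp hlp hsl.symm hu huc hwl hwc (e ▸ hw)).symm
  · exact (heq hl.1 hs.1 hlp hsp hsl hx hxc hws hwc hw).symm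

theorem anti : Anti G := by
  have hab : ∀ x : G, cs x = n → AbCent x := by
    intro x hxn
    have hxc : x ∉ center G := fun h => by
      have := GroupStructure3.ClassGraph.cs_eq_one_iff.2 h
      have := H.npos
      omega
    obtain ⟨p, y, hp, hy, hyc, hle, -⟩ := exists_component hxc
    have e : cent x = cent y := H.eq_n hxn hyc hle
    have hyn : cs y = n := by rw [← hxn]; exact congrArg Subgroup.index e.symm
    suffices h : ∀ (l : ℕ) (v : G), l.Prime → IsL l v → v ∈ cent y → cent y ≤ cent v by
      intro a ha b hb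
      suffices h' : (⟨a, ha⟩ : cent x) ∈ center (cent x) from
        (congrArg Subtype.val (mem_center_iff.1 h' ⟨b, hb⟩)).symm
      by_contra hac
      obtain ⟨q, hq, k, hk, hkc⟩ := GStructB.TwoSizes.exists_primary hac
      refine hkc (mem_center_iff.2 fun b => Subtype.ext ?_)
      have hw : IsL q (a ^ k) := by
        obtain ⟨i, hi⟩ := hk
        exact ⟨i, by rw [← hi, ← Subgroup.orderOf_coe]; rfl⟩
      exact (mem_cent.1 (h q _ hq hw (e ▸ pow_mem ha k) (e ▸ b.2))).eq
    have hhas : ∀ {s : ℕ}, Pr G s → Has y s := by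
      intro s hs
      obtain ⟨w, hw, hwc⟩ := hs.exists_isL
      exact Has.of_dvd hs.1 (g := w) ⟨w, self_mem_cent w, hw, hwc⟩ (hyn ▸ H.dvd_cs hwc)
    have key : ∀ (l : ℕ) (v : G), l.Prime → l ≠ p → IsL l v → v ∈ cent y → cent y ≤ cent v := by
      intro l v hl hlp hv hvy
      by_contra hno
      obtain ⟨s, hs, hsp, hsl⟩ := exists_third H.hns hp hl
      obtain ⟨u, huy, hu, huc⟩ := hhas hs
      by_cases hle : cent y ≤ cent u
      · have eu := H.eq_n hyn huc hle
        have hun : cs u = n := by rw [← hyn]; exact congrArg Subgroup.index eu.symm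
        refine H.not_primePow hl fun d hd hdm => ?_
        rcases H.primes_of hp hl hlp hy hyn hv hvy hno hd hdm with rfl | rfl
        · exact (H.primes_of hs.1 hl hsl.symm hu hun hv (eu ▸ hvy) (eu ▸ hno) hd hdm).resolve_left hsp.symm
        · rfl
      · refine H.not_primePow hp fun d hd hdm => ?_
        rcases H.primes_of hp hl hlp hy hyn hv hvy hno hd hdm with rfl | rfl
        · rfl
        · exact (H.primes_of hp hs.1 hsp hy hyn hu huy hle hd hdm).resolve_right hsl.symm
    intro l v hl hv hvy
    by_cases hlp : l = p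
    swap
    · exact key l v hl hlp hv hvy
    subst hlp
    by_contra hno
    obtain ⟨s, hs, hsl, -⟩ := exists_third H.hns hl hl
    obtain ⟨s', hs', hs'l, hs's⟩ := exists_third H.hns hl hs.1
    obtain ⟨u, huy, hu, huc⟩ := hhas hs
    obtain ⟨u', huy', hu', huc'⟩ := hhas hs'
    have eu := H.eq_n hyn huc (key s u hs.1 hsl hu huy)
    have eu' := H.eq_n hyn huc' (key s' u' hs'.1 hs'l hu' huy')
    have hun : cs u = n := by rw [← hyn]; exact congrArg Subgroup.index eu.symm
    have hun' : cs u' = n := by rw [← hyn]; exact congrArg Subgroup.index eu'.symm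
    refine H.not_primePow hl fun d hd hdm => ?_
    rcases H.primes_of hs.1 hl hsl.symm hu hun hv (eu ▸ hvy) (eu ▸ hno) hd hdm with h | h
    · exact (H.primes_of hs'.1 hl hs'l.symm hu' hun' hv (eu' ▸ hvy) (eu' ▸ hno) hd hdm).resolve_left
        (h ▸ hs's.symm)
    · exact h
  intro g k hg hk hle
  rcases H.vals g hg with h | h
  · exact H.eq_n h hk hle
  rcases H.vals k hk with h' | h'
  · have hgk : g ∈ cent k := hle (self_mem_cent g)
    exact le_antisymm hle fun a ha => mem_cent.2 (hab k h' a ha g hgk)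
  · exact cent_eq_of_cs_eq hle (h.trans h'.symm)

end Div

/-- Three class sizes force solubility. -/
theorem isSolvable (n₁ n₂ : ℕ) (h12 : n₂ < n₁) (h2 : 1 < n₂)
    (h : ∀ x : G, cs x = 1 ∨ cs x = n₂ ∨ cs x = n₁)
    (h₁ : ∃ x : G, cs x = n₁) (h₂ : ∃ x : G, cs x = n₂) : Group.IsSolvable G := by
  by_contra hns
  have hv : ∀ x : G, x ∉ center G → cs x = n₂ ∨ cs x = n₁ := fun x hx =>
    (h x).resolve_left fun e => hx (GroupStructure3.ClassGraph.cs_eq_one_iff.1 e)
  have hnc : ∀ x : G, 1 < cs x → x ∉ center G := fun x hx hc => by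
    have := GroupStructure3.ClassGraph.cs_eq_one_iff.2 hc
    omega
  obtain ⟨a, ha⟩ := h₁
  obtain ⟨b, hb⟩ := h₂
  have hA : Anti G := by
    by_cases hd : n₂ ∣ n₁
    · obtain ⟨m, rfl⟩ := hd
      refine Div.anti (n := n₂) (m := m) ⟨hns, h2, ?_, hv⟩
      rcases m with _ | _ | m
      · simp at h12
      · simp at h12
      · omega
    · intro g k hg hk hle
      refine cent_eq_of_cs_eq hle ?_
      have hdvd : cs k ∣ cs g := index_dvd_of_le hle
      rcases hv g hg with e | e <;> rcases hv k hk with e' | e' <;> rw [e, e'] at hdvd ⊢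
      · exact absurd (Nat.le_of_dvd (by omega) hdvd) (by omega)
      · exact absurd hdvd hd
  exact false_of_anti hA hns hv ⟨b, hnc b (by omega), hb⟩ ⟨a, hnc a (by omega), ha⟩

end Cfsg.Agent.ThreeSizes
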