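import Cfsg.Agent.ThreeSizes.NoTwo
import Cfsg.Agent.ClassRankThree.Partition
import Cfsg.Agent.GStructB.TwoSizesCore
import Cfsg.Agent.S0042
import Cfsg.Agent.S0564
import Cfsg.Agent.SolvStruct.Kazarin
import Cfsg.Agent.Lib.Coprime.FixedPointFree
import Cfsg.Agent.BlocksChars.ItoPSolvable
import Mathlib

/-!
Two noncentral class sizes with no proper inclusions between centralisers: the group is soluble.
-/

set_option autoImplicit false
set_option linter.unusedSectionVars false

namespace Cfsg.Agent.ThreeSizes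

open Subgroup
open GroupStructure3.ClassGraph (cs mem_of_pow_mem exists_mul_of_coprime exists_conj_le)
open GStructB.TwoSizes (cent IsL mem_cent self_mem_cent isL_of_mem conj_mem_cent coprime_of_isL)
open ClassRankThree (AbCent cent_eq_of_cs_eq)
open scoped commutatorElement Pointwise

universe u

variable {G : Type u} [Group G] [Finite G]

/-- No proper inclusion between centralisers of noncentral elements. -/
def Anti (G : Type u) [Group G] : Prop :=
  ∀ g k : G, g ∉ center G → k ∉ center G → cent g ≤ cent k → cent g = cent k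

theorem notMem_center_mul {x y : G} (hx : x ∉ center G) (hc : Commute x y)
    (hco : (orderOf x).Coprime (orderOf y)) : x * y ∉ center G := by
  intro h
  refine hx (GroupStructure3.ClassGraph.cs_eq_one_iff.1 ?_)
  have h1 : cs (x * y) = 1 := GroupStructure3.ClassGraph.cs_eq_one_iff.2 h
  refine Nat.eq_one_of_dvd_one (h1 ▸ index_dvd_of_le ?_)
  rw [GroupStructure3.ClassGraph.centralizer_mul_eq hc hco]
  exact inf_le_left

variable (hA : Anti G)
include hA

theorem coprime_eq {x y : G} (hx : x ∉ center G) (hy : y ∉ center G) (hc : Commute x y)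
    (hco : (orderOf x).Coprime (orderOf y)) : cent x = cent y := by
  have h1 := GroupStructure3.ClassGraph.centralizer_mul_eq hc hco
  have hxy := notMem_center_mul hx hc hco
  have e1 := hA _ _ hxy hx (h1.le.trans inf_le_left)
  have e2 := hA _ _ hxy hy (h1.le.trans inf_le_right)
  exact e1.symm.trans e2

theorem cent_eq_of_abCent {g w : G} (hab : AbCent g) (hg : g ∉ center G) (hw : w ∈ cent g)
    (hwc : w ∉ center G) : cent w = cent g :=
  (hA g w hg hwc fun x hx => mem_cent.2 (hab x hx w hw)).symm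

theorem rigid_of_abCent {g : G} (hab : AbCent g) (hg : g ∉ center G) (u : ℕ) : Rigid (cent g) u :=
  fun _ hx _ hxc => cent_eq_of_abCent hA hab hg hx hxc

theorem not_two {g : G} (hab : AbCent g) (hg : g ∉ center G) {s t : ℕ} (hs : s.Prime) (ht : t.Prime)
    (hst : s ≠ t) (hgs : Has g s) (hgt : Has g t) (hsk : s ∣ cs g) (htk : t ∣ cs g) : False :=
  no_two hs ht hst (rigid_of_abCent hA hab hg s) (rigid_of_abCent hA hab hg t) hgs hgt hsk htk

theorem abCent_of_mixed {g : G} (hg : g ∉ center G) {s t : ℕ} (hs : s.Prime) (ht : t.Prime)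
    (hst : s ≠ t) (hgs : Has g s) (hgt : Has g t) : AbCent g := by
  obtain ⟨p, y, hp, hy, hyc, hle, -⟩ := exists_component hg
  have e : cent g = cent y := hA _ _ hg hyc hle
  obtain ⟨v, hv, x, hxg, hxv, hxc, hvp⟩ : ∃ v, v.Prime ∧ ∃ x, x ∈ cent g ∧ IsL v x ∧ x ∉ center G ∧ v ≠ p := by
    by_cases hsp : s = p
    · obtain ⟨x, h1, h2, h3⟩ := hgt
      exact ⟨t, ht, x, h1, h2, h3, fun h => hst (hsp.trans h.symm)⟩
    · obtain ⟨x, h1, h2, h3⟩ := hgs
      exact ⟨s, hs, x, h1, h2, h3, hsp⟩
  have ex : cent x = cent g := by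
    rw [e]
    exact coprime_eq hA hxc hyc (mem_cent.1 (e ▸ hxg)) (coprime_of_isL hv hp hvp hxv hy)
  have hpp : ∀ (q : ℕ) (w : G), q.Prime → IsL q w → w ∈ cent g → w ∉ center G → cent w = cent g := by
    intro q w hq hwq hwg hwc
    by_cases hqp : q = p
    · rw [← ex]
      exact coprime_eq hA hwc hxc (mem_cent.1 (ex ▸ hwg))
        (coprime_of_isL hq hv (hqp ▸ hvp.symm) hwq hxv)
    · rw [e]
      exact coprime_eq hA hwc hyc (mem_cent.1 (e ▸ hwg)) (coprime_of_isL hq hp hqp hwq hy)
  intro a ha b hb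
  suffices h : (⟨a, ha⟩ : cent g) ∈ center (cent g) from
    (congrArg Subtype.val (mem_center_iff.1 h ⟨b, hb⟩)).symm
  by_contra hac
  obtain ⟨q, hq, k, hk, hkc⟩ := GStructB.TwoSizes.exists_primary hac
  refine hkc (mem_center_iff.2 fun b => Subtype.ext ?_)
  have hw : IsL q (a ^ k) := by
    obtain ⟨i, hi⟩ := hk
    exact ⟨i, by rw [← hi, ← Subgroup.orderOf_coe]; rfl⟩
  by_cases hwc : a ^ k ∈ center G
  · exact mem_center_iff.1 hwc b
  · have := hpp q _ hq hw (pow_mem ha k) hwc
    exact (mem_cent.1 (show (b : G) ∈ cent (a ^ k) by rw [this]; exact b.2)).eq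

/-- Centralisers full for one prime are conjugate. -/
theorem exists_conj_cent {g g' : G} (hab : AbCent g) (hg : g ∉ center G) (hab' : AbCent g')
    (hg' : g' ∉ center G) {t : ℕ} (ht : t.Prime) (hP : Pr G t) (hgt : ¬ t ∣ cs g)
    (hgt' : ¬ t ∣ cs g') : ∃ c : G, ∀ w ∈ cent g', c * w * c⁻¹ ∈ cent g := by
  have := Fact.mk ht
  obtain ⟨x, hx, hxc⟩ := hP.exists_isL
  obtain ⟨i, hi⟩ := hx
  obtain ⟨T, hT⟩ := (IsPGroup.of_card (n := i) (by rw [Nat.card_zpowers, hi]) :
    IsPGroup t (zpowers x)).exists_le_sylow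
  have hxT : x ∈ (T : Subgroup G) := hT (mem_zpowers x)
  obtain ⟨c, hc⟩ := exists_conj_le hgt T
  obtain ⟨c', hc'⟩ := exists_conj_le hgt' T
  have hn : ∀ d : G, d * x * d⁻¹ ∉ center G := GStructB.TwoSizes.conj_notMem_center hxc
  have e := cent_eq_of_abCent hA hab hg (hc x hxT) (hn c)
  have e' := cent_eq_of_abCent hA hab' hg' (hc' x hxT) (hn c')
  refine ⟨c * c'⁻¹, fun w hw => ?_⟩
  rw [← e, show c * c'⁻¹ * w * (c * c'⁻¹)⁻¹ = c * (c'⁻¹ * w * c'⁻¹⁻¹) * c⁻¹ by group]
  refine conj_mem_cent ?_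
  rw [← e'] at hw
  have := conj_mem_cent (c := c'⁻¹) hw
  rwa [show c'⁻¹ * (c' * x * c'⁻¹) * c'⁻¹⁻¹ = x by group] at this

variable (hns : ¬ Group.IsSolvable G)
include hns

/-- An element of a normal `q`-subgroup modulo the centre, central there, has too large a centraliser. -/
theorem false_of_normal {q t s r : ℕ} (hq : q.Prime) (ht : t.Prime) (htq : t ≠ q) (hs : s.Prime)
    (hr : r.Prime) (Q : Subgroup (G ⧸ center G)) [Q.Normal] (hQ : IsPGroup q Q) {y : G}
    (hy : (y : G ⧸ center G) ∈ Q) (hyc : y ∉ center G)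
    (hcen : ∀ v ∈ Q, v * (y : G ⧸ center G) = (y : G ⧸ center G) * v) (hab : AbCent y)
    (hyt : Has y t) (hk : ∀ l, l.Prime → l ∣ cs y → l = s ∨ l = r) : False := by
  have := Fact.mk hq
  set π := QuotientGroup.mk' (center G)
  have hW : ∀ x : G, π x ∈ Q → x ∈ cent y := by
    intro x hx
    obtain ⟨i, hi⟩ := hQ ⟨π x, hx⟩
    have hxi : x ^ q ^ i ∈ center G := (QuotientGroup.eq_one_iff _).1 (by
      have := congrArg Subtype.val hi
      rwa [SubmonoidClass.coe_pow, ← map_pow] at this)
    obtain ⟨a, c, -, hc, hu⟩ := GStructB.PElements.exists_split q x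
    refine mem_of_pow_mem (Nat.Coprime.pow_left i (hq.coprime_iff_not_dvd.2 hc))
      (mem_cent.2 (mem_center_iff.1 hxi y).symm) ?_
    set w := x ^ c
    have hw : π w ∈ Q := by rw [map_pow]; exact pow_mem hx c
    obtain ⟨h, hh, hht, hhc⟩ := hyt
    have hn : w ∈ normalizer (cent y : Set G) := mem_normalizer_cent (by
      rw [← QuotientGroup.eq_one_iff]
      show π (w * y * w⁻¹ * y⁻¹) = 1
      rw [map_mul, map_mul, map_mul, map_inv, map_inv,
        show π w * π y = π y * π w from hcen _ hw, mul_inv_cancel_right, mul_inv_cancel])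
    have h1 : w * h * w⁻¹ ∈ cent y := (mem_normalizer_iff.1 hn h).1 hh
    have h2 : IsL t (w * h * w⁻¹ * h⁻¹) :=
      isL_mul ht (GStructB.TwoSizes.isL_conj hht w) (isL_inv hht) (hab _ h1 _ (inv_mem hh))
    have h3 : π (w * h * w⁻¹ * h⁻¹) ∈ Q := by
      rw [show w * h * w⁻¹ * h⁻¹ = w * (h * w⁻¹ * h⁻¹) by group, map_mul]
      refine mul_mem hw ?_
      rw [map_mul, map_mul, map_inv π h]
      exact (inferInstance : Q.Normal).conj_mem _ (by rw [map_inv]; exact inv_mem hw) _
    have h4 : w * h * w⁻¹ * h⁻¹ ∈ center G := by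
      rw [← QuotientGroup.eq_one_iff, ← orderOf_eq_one_iff]
      obtain ⟨j, hj⟩ := h2
      obtain ⟨j', hj'⟩ := hQ ⟨_, h3⟩
      refine Nat.eq_one_of_dvd_coprimes (((Nat.coprime_primes ht hq).2 htq).pow j j')
        (hj ▸ orderOf_map_dvd π (w * h * w⁻¹ * h⁻¹)) (orderOf_dvd_of_pow_eq_one ?_)
      exact congrArg Subtype.val hj'
    have h5 : Commute w h :=
      GStructB.TwoSizes.commute_of_mod_center ht hq htq.symm ⟨a, hu⟩ hht h4
    rw [← cent_eq_of_abCent hA hab hyc hh hhc]
    exact mem_cent.2 h5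
  have hF : (cent y).Normal := by
    refine ⟨fun x hx c => ?_⟩
    have hcy : c * y * c⁻¹ ∈ cent y := hW _ (by
      rw [map_mul, map_mul, map_inv]
      exact (inferInstance : Q.Normal).conj_mem _ hy _)
    rw [← cent_eq_of_abCent hA hab hyc hcy (GStructB.TwoSizes.conj_notMem_center hyc c)]
    exact conj_mem_cent hx
  refine hns ((Group.isSolvable_iff_subgroup_quotient (cent y)).2
    ⟨Group.isSolvable_of_comm fun a b => Subtype.ext (hab _ a.2 _ b.2), ?_⟩)
  obtain ⟨a, b, hab'⟩ := eq_pow_mul_pow (GroupStructure3.ClassGraph.cs_ne_zero y) hs hr hk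
  exact Cfsg.Agent.Characters.burnside_pa_qb hs hr (by rw [← index_eq_card]; exact hab')

/-- One size belongs to a single prime only. -/
theorem false_of_pure {r k : ℕ} (hr : r.Prime)
    (hP : ∀ q, q.Prime → q ≠ r → ∀ x : G, IsL q x → x ∉ center G → AbCent x ∧ cs x = k)
    {g : G} (hg : g ∉ center G) (hab : AbCent g) (hk : cs g = k) : False := by
  have hhas : ∀ q, Pr G q → q ≠ r → ∀ x : G, cs x = k → Has x q := by
    intro q hq hqr x hx
    obtain ⟨w, hw, hwc⟩ := hq.exists_isL
    exact Has.of_dvd hq.1 ⟨w, self_mem_cent w, hw, hwc⟩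
      (by rw [(hP q hq.1 hqr w hw hwc).2, hx])
  have hPr : ∀ q, q.Prime → q ∣ k → Pr G q := fun q hq hqk => ⟨hq, (hk ▸ hqk).trans
    (index_dvd_of_le fun z hz => mem_cent.2 (mem_center_iff.1 hz g).symm)⟩
  by_cases hfull : ∀ q, q.Prime → q ∣ k → q = r
  · -- a product of two nilpotent subgroups
    have := Fact.mk hr
    obtain ⟨R⟩ : Nonempty (Sylow r G) := inferInstance
    have hco : (cent g).index.Coprime (R : Subgroup G).index := Nat.coprime_of_dvd fun q hq hq1 hq2 =>
      R.not_dvd_index (hfull q hq (hk ▸ hq1) ▸ hq2)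
    refine hns (Cfsg.Agent.S0564.result (R : Subgroup G) (cent g) R.2.isNilpotent ?_ fun x => ?_)
    · have : IsMulCommutative (cent g) := ⟨⟨fun a b => Subtype.ext (hab _ a.2 _ b.2)⟩⟩
      open scoped IsMulCommutative in exact CommGroup.isNilpotent
    · obtain ⟨u, hu, v, hv, e⟩ := exists_mul_of_coprime hco x
      exact ⟨u, hu, v, hv, e⟩
  push Not at hfull
  obtain ⟨s, hs, hsk, hsr⟩ := hfull
  have hsP := hPr s hs hsk
  have hprimes : ∀ q, q.Prime → q ∣ k → q = s ∨ q = r := by
    intro q hq hqk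
    by_contra hno
    push Not at hno
    exact not_two hA hab hg hs hq hno.1.symm (hhas s hsP hsr g hk)
      (hhas q (hPr q hq hqk) hno.2 g hk) (hk ▸ hsk) (hk ▸ hqk)
  obtain ⟨t, htP, hts, htr⟩ := exists_third hns hs hr
  have := Fact.mk hs
  have := Fact.mk hr
  set π := QuotientGroup.mk' (center G)
  obtain ⟨S⟩ : Nonempty (Sylow s G) := inferInstance
  have hSZ : ¬ (S : Subgroup G) ≤ center G := fun hle => S.not_dvd_index
    (hsP.2.trans (index_dvd_of_le hle))
  obtain ⟨z₀, hz₀S, hz₀c, hz₀⟩ := GStructB.TwoSizes.exists_step S.2 le_rfl Subgroup.le_normalizer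
    (by rw [normalizer_eq_top]; exact le_top) hSZ
  -- a power of order `s` modulo the centre
  obtain ⟨n, hn⟩ := S.2 ⟨z₀, hz₀S⟩
  classical
  have hex : ∃ n, z₀ ^ s ^ n ∈ center G := ⟨n, by
    have := congrArg Subtype.val hn
    rw [SubmonoidClass.coe_pow] at this
    simp only [this, OneMemClass.coe_one, one_mem]⟩
  obtain ⟨m, hm⟩ : ∃ m, Nat.find hex = m + 1 := ⟨Nat.find hex - 1, by
    have : Nat.find hex ≠ 0 := fun e => hz₀c (by simpa [e] using Nat.find_spec hex)
    omega⟩
  set z := z₀ ^ s ^ m with hzdef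
  have hzS : z ∈ (S : Subgroup G) := pow_mem hz₀S _
  have hzc : z ∉ center G := Nat.find_min hex (by omega)
  have hzs : z ^ s ∈ center G := by
    rw [hzdef, ← pow_mul, ← pow_succ, ← hm]; exact Nat.find_spec hex
  have hzcom : ∀ x ∈ (S : Subgroup G), π x * π z = π z * π x := by
    intro x hx
    have h1 : π (x * z₀ * x⁻¹ * z₀⁻¹) = 1 := (QuotientGroup.eq_one_iff _).2 (hz₀ x hx)
    rw [map_mul, map_mul, map_mul, map_inv, map_inv, mul_inv_eq_one, mul_inv_eq_iff_eq_mul] at h1
    rw [hzdef, map_pow]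
    exact (Commute.pow_right (show Commute (π x) (π z₀) from h1) _).eq
  obtain ⟨habz, hzk⟩ := hP s hs hsr z (isL_of_mem S.2 hzS) hzc
  obtain ⟨u, huS, huz⟩ : ∃ u ∈ (S : Subgroup G), u ∉ cent z := by
    by_contra hno
    push Not at hno
    exact S.not_dvd_index ((hzk ▸ hsk).trans (index_dvd_of_le hno))
  have hus : u ^ s ∈ center G := by
    have hc : u * z * u⁻¹ * z⁻¹ ∈ center G := by
      rw [← QuotientGroup.eq_one_iff]
      show π (u * z * u⁻¹ * z⁻¹) = 1
      rw [map_mul, map_mul, map_mul, map_inv, map_inv, hzcom u huS, mul_inv_cancel_right,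
        mul_inv_cancel]
    set c := u * z * u⁻¹ * z⁻¹ with hcdef
    have hucz : u * z * u⁻¹ = c * z := by rw [hcdef]; group
    have hcs : c ^ s = 1 := by
      have h1 : (c * z) ^ s = z ^ s := by
        rw [← hucz, conj_pow, mem_center_iff.1 hzs u, mul_inv_cancel_right]
      rwa [(show Commute c z from (mem_center_iff.1 hc z).symm).mul_pow, mul_eq_right] at h1
    have h2 := GStructB.TwoSizes.conj_iter hc hucz s
    rw [hcs, one_mul] at h2
    have hmem : u ^ s ∈ cent z := mem_cent.2 (mul_inv_eq_iff_eq_mul.1 h2)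
    by_contra hno
    refine huz ?_
    rw [← cent_eq_of_abCent hA habz hzc hmem hno]
    exact mem_cent.2 ((Commute.refl u).pow_right s)
  -- the class of the image of `z` has `r`-power size
  set T := (centralizer ({π z} : Set (G ⧸ center G))).comap π with hT
  have hT1 : cent z ≤ T := fun x hx => mem_comap.2 (mem_centralizer_singleton_iff.2
    ((mem_cent.1 hx).map π).eq)
  have hT2 : (S : Subgroup G) ≤ T := fun x hx => mem_comap.2 (mem_centralizer_singleton_iff.2
    (hzcom x hx))
  obtain ⟨a, ha⟩ : ∃ a, T.index = r ^ a := ⟨_, Nat.eq_prime_pow_of_unique_prime_dvd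
    index_ne_zero_of_finite fun {q} hq hqd => (hprimes q hq (hzk ▸ hqd.trans (index_dvd_of_le hT1))).resolve_left
      fun e => S.not_dvd_index (by
        have := hqd.trans (index_dvd_of_le hT2)
        rwa [e] at this)⟩
  rw [hT, index_comap_of_surjective _ (QuotientGroup.mk'_surjective _)] at ha
  have hkaz := fun c d => SolvStruct.Kazarin.commutator_mem_pCore hr ha c d
  have hk' : ∀ y : G, cs y = k → ∀ l, l.Prime → l ∣ cs y → l = s ∨ l = r :=
    fun y hy l hl hd => hprimes l hl (hy ▸ hd)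
  by_cases hO : Cfsg.pCore r (G ⧸ center G) = ⊥
  · set N := normalClosure ({π z} : Set (G ⧸ center G)) with hN
    have hcc : ∀ v ∈ Group.conjugatesOfSet ({π z} : Set (G ⧸ center G)),
        ∀ w ∈ Group.conjugatesOfSet ({π z} : Set (G ⧸ center G)), Commute v w := by
      intro v hv w hw
      obtain ⟨_, rfl, hv⟩ := Group.mem_conjugatesOfSet_iff.1 hv
      obtain ⟨_, rfl, hw⟩ := Group.mem_conjugatesOfSet_iff.1 hw
      obtain ⟨c, rfl⟩ := isConj_iff.1 hv
      obtain ⟨d, rfl⟩ := isConj_iff.1 hw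
      have := hkaz c d
      rw [hO, mem_bot] at this
      exact commutatorElement_eq_one_iff_mul_comm.1 this
    have hNc : ∀ v ∈ N, ∀ w ∈ N, w * v = v * w := by
      intro v hv w hw
      have h1 : N ≤ centralizer (Group.conjugatesOfSet ({π z} : Set (G ⧸ center G))) :=
        (Subgroup.closure_le _).2 fun a ha => mem_centralizer_iff.2 fun b hb => (hcc b hb a ha).eq
      have h2 : N ≤ centralizer (N : Set (G ⧸ center G)) :=
        (Subgroup.closure_le _).2 fun a ha => mem_centralizer_iff.2 fun b hb =>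
          ((mem_centralizer_iff.1 (h1 hb) a ha)).symm
      exact mem_centralizer_iff.1 (h2 hv) w hw
    have hNs : ∀ v ∈ N, v ^ s = 1 := by
      intro v hv
      induction hv using Subgroup.closure_induction with
      | mem a ha =>
        obtain ⟨_, rfl, ha⟩ := Group.mem_conjugatesOfSet_iff.1 ha
        obtain ⟨c, rfl⟩ := isConj_iff.1 ha
        rw [conj_pow, ← map_pow, show π (z ^ s) = 1 from (QuotientGroup.eq_one_iff _).2 hzs,
          mul_one, mul_inv_cancel]
      | one => exact one_pow s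
      | mul a b ha hb iha ihb =>
        rw [(show Commute a b from hNc b hb a ha).mul_pow, iha, ihb, one_mul]
      | inv a _ iha => rw [inv_pow, iha, inv_one]
    have hNp : IsPGroup s N := fun v => ⟨1, Subtype.ext (by simpa using hNs _ v.2)⟩
    have : N.Normal := normalClosure_normal
    exact false_of_normal hA hns hs htP.1 hts hs hr N hNp (y := z)
      (subset_normalClosure rfl) hzc (fun v hv => hNc _ (subset_normalClosure rfl) v hv) habz
      (hhas t htP htr z hzk) (hk' z hzk)
  · set Q := Cfsg.pCore r (G ⧸ center G) with hQdef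
    have hQn : Q.Normal := Cores.pCore_normal r
    have hQp : IsPGroup r Q := Cores.pCore_isPGroup r
    set V := (center Q).map Q.subtype with hV
    have hVn : V.Normal := ConjAct.normal_of_characteristic_of_normal
    have hVQ : V ≤ Q := map_subtype_le _
    have : Nontrivial Q := (nontrivial_iff_ne_bot _).2 hO
    have hV1 : V ≠ ⊥ := by
      rw [hV, Ne, map_eq_bot_iff_of_injective _ Q.subtype_injective]
      exact hQp.bot_lt_center.ne'
    set A := Subgroup.closure ({π z, π u} : Set (G ⧸ center G)) with hA'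
    have hAc : IsMulCommutative A := Subgroup.isMulCommutative_closure fun v hv w hw => by
      rcases hv with rfl | rfl <;> rcases hw with rfl | rfl
      exacts [rfl, (hzcom u huS).symm, hzcom u huS, rfl]
    by_cases hfpf : ∀ a ∈ A, a ≠ 1 → V ⊓ centralizer {a} = ⊥
    · refine huz ?_
      have hcyc : IsCyclic A := Coprime.fpf_isCyclic_of_abelian (by rw [normalizer_eq_top]; exact le_top) hfpf hV1
      have hAs : ∀ a : A, a ^ s = 1 := by
        rintro ⟨a, ha⟩
        refine Subtype.ext ?_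
        rw [SubmonoidClass.coe_pow]
        show a ^ s = 1
        induction ha using Subgroup.closure_induction with
        | mem a ha =>
          rcases ha with rfl | rfl
          · rw [← map_pow]; exact (QuotientGroup.eq_one_iff _).2 hzs
          · rw [← map_pow]; exact (QuotientGroup.eq_one_iff _).2 hus
        | one => exact one_pow s
        | mul a b ha hb iha ihb =>
          rw [(show Commute a b from congrArg Subtype.val (hAc.1.1 ⟨a, ha⟩ ⟨b, hb⟩)).mul_pow,
            iha, ihb, one_mul]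
        | inv a _ iha => rw [inv_pow, iha, inv_one]
      obtain ⟨w, hw⟩ := hcyc.exists_generator
      have hcard : Nat.card A ≤ s := by
        rw [← orderOf_eq_card_of_forall_mem_zpowers hw]
        exact Nat.le_of_dvd hs.pos (orderOf_dvd_of_pow_eq_one (hAs w))
      have hzA : zpowers (π z) ≤ A := zpowers_le.2 (Subgroup.subset_closure (Set.mem_insert _ _))
      have hzo : orderOf (π z) = s := orderOf_eq_prime
        (by rw [← map_pow]; exact (QuotientGroup.eq_one_iff _).2 hzs)
        fun e => hzc ((QuotientGroup.eq_one_iff z).1 e)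
      have heq : zpowers (π z) = A := eq_of_le_of_card_ge hzA (by rwa [Nat.card_zpowers, hzo])
      obtain ⟨i, hi⟩ : π u ∈ zpowers (π z) := by
        rw [heq]; exact Subgroup.subset_closure (Set.mem_insert_of_mem _ rfl)
      have h1 : (z ^ i)⁻¹ * u ∈ center G := (QuotientGroup.eq_one_iff _).1 (show π ((z ^ i)⁻¹ * u) = 1 by
        rw [map_mul, map_inv, map_zpow, show π z ^ i = π u from hi, inv_mul_cancel])
      have h2 := mul_mem (zpow_mem (self_mem_cent z) i)
        (show (z ^ i)⁻¹ * u ∈ cent z from mem_cent.2 (mem_center_iff.1 h1 z).symm)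
      rwa [mul_inv_cancel_left] at h2
    push Not at hfpf
    obtain ⟨a, haA, ha1, hane⟩ := hfpf
    obtain ⟨v, ⟨hvV, hva⟩, hv1⟩ := (bot_or_exists_ne_one _).resolve_left hane
    obtain ⟨w, hwS, rfl⟩ : a ∈ (S : Subgroup G).map π := by
      refine (Subgroup.closure_le _).2 ?_ haA
      rintro _ (rfl | rfl)
      exacts [mem_map_of_mem π hzS, mem_map_of_mem π huS]
    obtain ⟨y₀, rfl⟩ := QuotientGroup.mk'_surjective (center G) v
    obtain ⟨b, c, -, hc, hu'⟩ := GStructB.PElements.exists_split r y₀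
    set y := y₀ ^ c
    have hyV : π y ∈ V := by rw [map_pow]; exact pow_mem hvV c
    have hyc : y ∉ center G := by
      intro h
      refine hv1 (orderOf_eq_one_iff.1 ?_)
      obtain ⟨j, hj⟩ := hQp ⟨π y₀, hVQ hvV⟩
      refine Nat.eq_one_of_dvd_coprimes (Nat.Coprime.pow_left j (hr.coprime_iff_not_dvd.2 hc))
        (orderOf_dvd_of_pow_eq_one (congrArg Subtype.val hj)) (orderOf_dvd_of_pow_eq_one ?_)
      rw [← map_pow]
      exact (QuotientGroup.eq_one_iff _).2 h
    have hwc : w ∉ center G := fun h => ha1 ((QuotientGroup.eq_one_iff w).2 h)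
    have hcomm : Commute w y := GStructB.TwoSizes.commute_of_mod_center hr hs hsr
      (isL_of_mem S.2 hwS) ⟨b, hu'⟩ (by
        rw [← QuotientGroup.eq_one_iff]
        show π (w * y * w⁻¹ * y⁻¹) = 1
        have hp : Commute (π w) (π y) := by
          rw [map_pow]
          exact (show Commute (π y₀) (π w) from mem_centralizer_singleton_iff.1 hva).symm.pow_right c
        rw [map_mul, map_mul, map_mul, map_inv, map_inv, hp.eq, mul_inv_cancel_right, mul_inv_cancel])
    obtain ⟨habw, hwk⟩ := hP s hs hsr w (isL_of_mem S.2 hwS) hwc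
    have hyw : y ∈ cent w := mem_cent.2 hcomm.symm
    have e := cent_eq_of_abCent hA habw hwc hyw hyc
    have hyk : cs y = k := by rw [← hwk]; exact congrArg Subgroup.index e
    obtain ⟨⟨y', hy'Q⟩, hy'c, hy'⟩ := hyV
    refine false_of_normal hA hns hr htP.1 htr hs hr Q hQp (y := y) (hVQ ⟨⟨y', hy'Q⟩, hy'c, hy'⟩) hyc
      (fun q hq => ?_) (fun a ha b hb => habw a (e ▸ ha) b (e ▸ hb)) (hhas t htP htr y hyk) (hk' y hyk)
    have h1 := congrArg Subtype.val (mem_center_iff.1 hy'c ⟨q, hq⟩)
    change q * y' = y' * q at h1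
    rw [show y' = (y : G ⧸ center G) from hy'] at h1
    exact h1

omit hA hns in
/-- Noncentral elements with a conjugate in `X`. -/
theorem ncard_conj_mul_le (X : Subgroup G) (hX : center G ≤ X) :
    ({g : G | g ∉ center G ∧ ∃ d : G, d * g * d⁻¹ ∈ X}).ncard * Nat.card (normalizer (X : Set G)) ≤
      (Nat.card X - Nat.card (center G)) * Nat.card G := by
  set N := normalizer (X : Set G) with hN
  let Y : Set G := (X : Set G) \ (center G : Set G)
  have hY : Y.ncard = Nat.card X - Nat.card (center G) := by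
    rw [Set.ncard_sdiff (show (center G : Set G) ⊆ X from hX) (Set.toFinite _),
      ← Nat.card_coe_set_eq, ← Nat.card_coe_set_eq]
    rfl
  let f : (G ⧸ N) × Y → G := fun w => w.1.out * (w.2 : G) * w.1.out⁻¹
  have hsub : {g : G | g ∉ center G ∧ ∃ d : G, d * g * d⁻¹ ∈ X} ⊆ Set.range f := by
    rintro g ⟨hg, d, hd⟩
    obtain ⟨⟨n, hn⟩, he⟩ := QuotientGroup.mk_out_eq_mul N d⁻¹
    refine ⟨(QuotientGroup.mk d⁻¹, ⟨n⁻¹ * (d * g * d⁻¹) * n, ?_, ?_⟩), ?_⟩
    · have := (mem_normalizer_iff.1 (inv_mem hn) _).1 hd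
      rwa [inv_inv] at this
    · intro e
      refine hg ?_
      have := (inferInstance : (center G).Normal).conj_mem _ e (d⁻¹ * n)
      simpa [mul_assoc] using this
    · simp only [f, he]; group
  have h1 := (Set.ncard_le_ncard hsub (Set.toFinite _))
  rw [← Nat.card_coe_set_eq (Set.range f)] at h1
  have h2 := h1.trans (Finite.card_range_le f)
  rw [Nat.card_prod, ← index_eq_card, Nat.card_coe_set_eq, hY] at h2
  calc _ ≤ N.index * (Nat.card X - Nat.card (center G)) * Nat.card N := Nat.mul_le_mul_right _ h2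
    _ = _ := by rw [← N.card_mul_index]; ring

/-- A self-normalising component gives a Frobenius group. -/
theorem normalizer_ne {g : G} (hab : AbCent g) (hg : g ∉ center G) :
    normalizer (cent g : Set G) ≠ cent g := by
  intro hN
  set π := QuotientGroup.mk' (center G)
  set H := (cent g).map π with hH
  have hZ : center G ≤ cent g := fun z hz => mem_cent.2 (mem_center_iff.1 hz g).symm
  have hback : ∀ x : G, π x ∈ H → x ∈ cent g := by
    rintro x ⟨a, ha, e⟩
    have h1 : a⁻¹ * x ∈ center G := QuotientGroup.eq.1 e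
    have := mul_mem ha (hZ h1)
    rwa [mul_inv_cancel_left] at this
  have hFC : Cfsg.IsFrobeniusComplement H := by
    refine ⟨fun e => hg ((QuotientGroup.eq_one_iff g).1 (mem_bot.1 (e ▸ mem_map_of_mem π (self_mem_cent g)))),
      fun e => hns ?_, fun c hc => ?_⟩
    · exact Group.isSolvable_of_comm fun a b =>
        hab a (hback a (e ▸ mem_top _)) b (hback b (e ▸ mem_top _))
    · rw [eq_bot_iff]
      rintro v ⟨hv1, hv2⟩
      obtain ⟨a, ha, rfl⟩ := hv1
      obtain ⟨c, rfl⟩ := QuotientGroup.mk'_surjective (center G) c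
      change π a ∈ (MulAut.conj (π c) • H : Subgroup (G ⧸ center G)) at hv2
      rw [GStructB.PElements.mem_conj_smul, ← map_inv, ← map_mul, ← map_mul] at hv2
      rw [mem_bot]
      by_contra hne
      have hac : a ∉ center G := fun h => hne ((QuotientGroup.eq_one_iff a).2 h)
      have h2 : c⁻¹ * a * c ∈ cent g := hback _ hv2
      have h3 : c⁻¹ * a * c ∉ center G := by
        simpa using GStructB.TwoSizes.conj_notMem_center hac c⁻¹
      have e1 := cent_eq_of_abCent hA hab hg ha hac
      have e2 := cent_eq_of_abCent hA hab hg h2 h3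
      refine hc (mem_map_of_mem π ?_)
      rw [← hN]
      refine mem_normalizer_iff.2 fun w => ⟨fun hw => ?_, fun hw => ?_⟩
      · have := conj_mem_cent (c := c) (e2.ge hw)
        rwa [show c * (c⁻¹ * a * c) * c⁻¹ = a by group, e1] at this
      · have := conj_mem_cent (c := c⁻¹) (e1.ge hw)
        rw [show c⁻¹ * a * c⁻¹⁻¹ = c⁻¹ * a * c by group, e2] at this
        simpa [mul_assoc] using this
  obtain ⟨N, hNset, hNn, hNnil⟩ := Cfsg.Agent.S0042.result H hFC
  refine hns (isSolvable_of_center ?_)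
  set ψ := QuotientGroup.mk' N
  have htop : H.map ψ = ⊤ := by
    refine BlocksChars.ItoPSolvable.eq_top_of_conj_cover _ fun x => ?_
    obtain ⟨x, rfl⟩ := QuotientGroup.mk'_surjective N x
    by_cases hx : x ∈ N
    · exact ⟨1, by rw [show ψ x = 1 from (QuotientGroup.eq_one_iff x).2 hx]; simp⟩
    have hx' : x ∉ Cfsg.frobeniusKernel H := by rw [← hNset]; exact hx
    simp only [Cfsg.frobeniusKernel, Set.mem_ofPred_eq, not_or, not_forall, not_not] at hx'
    obtain ⟨-, c, hc⟩ := hx'
    rw [GStructB.PElements.mem_conj_smul] at hc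
    exact ⟨ψ c, by rw [← map_inv, ← map_mul, ← map_mul]; exact mem_map_of_mem ψ hc⟩
  refine (Group.isSolvable_iff_subgroup_quotient N).2 ⟨inferInstance, Group.isSolvable_of_comm fun a b => ?_⟩
  obtain ⟨_, ⟨a, ha, rfl⟩, rfl⟩ : a ∈ H.map ψ := htop ▸ mem_top _
  obtain ⟨_, ⟨b, hb, rfl⟩, rfl⟩ : b ∈ H.map ψ := htop ▸ mem_top _
  rw [← map_mul, ← map_mul, ← map_mul, ← map_mul, (hab a ha b hb).eq]

/-- All centralisers are abelian and contain two primes. -/
theorem false_of_all {k l : ℕ} (hv : ∀ x : G, x ∉ center G → cs x = k ∨ cs x = l)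
    (hab : ∀ g : G, g ∉ center G → AbCent g)
    (htwo : ∀ g : G, g ∉ center G → ∃ s t, s.Prime ∧ t.Prime ∧ s ≠ t ∧ Has g s ∧ Has g t)
    {g g' : G} (hg : g ∉ center G) (hgk : cs g = k) (hg' : g' ∉ center G) (hgl : cs g' = l) :
    False := by
  have hfull : ∀ g : G, g ∉ center G → ∃ t, t.Prime ∧ Pr G t ∧ ¬ t ∣ cs g := by
    intro g hg
    obtain ⟨s, t, hs, ht, hst, hgs, hgt⟩ := htwo g hg
    by_contra hno
    push Not at hno
    exact not_two hA (hab g hg) hg hs ht hst hgs hgt (hno s hs (hgs.pr hs)) (hno t ht (hgt.pr ht))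
  have hcov : ∀ {g : G}, g ∉ center G → ∀ x : G, x ∉ center G → cs x = cs g →
      ∃ d : G, d * x * d⁻¹ ∈ cent g := by
    intro g hg x hx e
    obtain ⟨t, ht, htP, hgt⟩ := hfull g hg
    obtain ⟨c, hc⟩ := exists_conj_cent hA (hab g hg) hg (hab x hx) hx ht htP hgt (e ▸ hgt)
    exact ⟨c, hc x (self_mem_cent x)⟩
  have hZ : ∀ g : G, center G ≤ cent g := fun g z hz => mem_cent.2 (mem_center_iff.1 hz g).symm
  set U := fun g : G => {x : G | x ∉ center G ∧ ∃ d : G, d * x * d⁻¹ ∈ cent g}
  have hsub : (center G : Set G)ᶜ ⊆ U g ∪ U g' := by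
    intro x hx
    rcases hv x hx with h | h
    · exact Or.inl ⟨hx, hcov hg x hx (h.trans hgk.symm)⟩
    · exact Or.inr ⟨hx, hcov hg' x hx (h.trans hgl.symm)⟩
  have hcount := (Set.ncard_le_ncard hsub (Set.toFinite _)).trans (Set.ncard_union_le _ _)
  rw [Set.ncard_compl, show (center G : Set G).ncard = Nat.card (center G) from
    (Nat.card_coe_set_eq _).symm] at hcount
  have hbd : ∀ g : G, g ∉ center G →
      (U g).ncard * (2 * Nat.card (cent g)) ≤ (Nat.card (cent g) - Nat.card (center G)) * Nat.card G := by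
    intro g hg
    refine le_trans (Nat.mul_le_mul_left _ ?_) (ncard_conj_mul_le (cent g) (hZ g))
    obtain ⟨j, hj⟩ := card_dvd_of_le (Subgroup.le_normalizer : cent g ≤ normalizer (cent g : Set G))
    have hj1 : j ≠ 1 := fun e => normalizer_ne hA hns (hab g hg) hg
      (eq_of_le_of_card_ge Subgroup.le_normalizer (by rw [hj, e, mul_one])).symm
    have hj0 : j ≠ 0 := fun e => by
      rw [e, mul_zero] at hj
      exact Nat.card_pos.ne' hj
    rw [hj, mul_comm]
    exact Nat.mul_le_mul_left _ (by omega)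
  have hlt : ∀ g : G, g ∉ center G → Nat.card (cent g) < Nat.card G := fun g hg => by
    refine lt_of_le_of_ne (Nat.le_of_dvd Nat.card_pos (card_subgroup_dvd_card _)) fun e => hg ?_
    have := Subgroup.eq_top_of_card_eq _ e
    exact mem_center_iff.2 fun x => mem_cent.1 (this ▸ mem_top x)
  have h1 := hbd g hg
  have h2 := hbd g' hg'
  have h3 := hlt g hg
  have h4 := hlt g' hg'
  have h5 : 0 < Nat.card (center G) := Nat.card_pos
  have h6 := card_le_of_le (hZ g)
  have h7 := card_le_of_le (hZ g')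
  have h8 : Nat.card (center G) ≤ Nat.card G := h6.trans h3.le
  have h6' : (Nat.card (center G) : ℤ) ≤ Nat.card (cent g) := by exact_mod_cast h6
  have h7' : (Nat.card (center G) : ℤ) ≤ Nat.card (cent g') := by exact_mod_cast h7
  zify [h6, h7, h8] at hcount h1 h2 h3 h4 h5
  generalize ((Nat.card G : ℕ) : ℤ) = n at *
  generalize ((Nat.card (center G) : ℕ) : ℤ) = z at *
  generalize ((Nat.card (cent g) : ℕ) : ℤ) = x at *
  generalize ((Nat.card (cent g') : ℕ) : ℤ) = y at *
  generalize (((U g).ncard : ℕ) : ℤ) = a at *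
  generalize (((U g').ncard : ℕ) : ℤ) = b at *
  have hx0 : 0 < x := lt_of_lt_of_le h5 h6'
  have hy0 : 0 < y := lt_of_lt_of_le h5 h7'
  have k1 := mul_le_mul_of_nonneg_left hcount (mul_pos (mul_pos two_pos hx0) hy0).le
  have k2 := mul_le_mul_of_nonneg_right h1 hy0.le
  have k3 := mul_le_mul_of_nonneg_right h2 hx0.le
  have k4 : 0 < z * ((n - x) * y + (n - y) * x) := mul_pos h5
    (add_pos (mul_pos (sub_pos.2 h3) hy0) (mul_pos (sub_pos.2 h4) hx0))
  nlinarith

/-- Two class sizes without proper inclusions of centralisers. -/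
theorem false_of_anti {k l : ℕ} (hv : ∀ x : G, x ∉ center G → cs x = k ∨ cs x = l)
    (hk : ∃ x : G, x ∉ center G ∧ cs x = k) (hl : ∃ x : G, x ∉ center G ∧ cs x = l) : False := by
  by_cases hmix : ∃ g : G, g ∉ center G ∧ ∃ s t, s.Prime ∧ t.Prime ∧ s ≠ t ∧ Has g s ∧ Has g t
  swap
  · push Not at hmix
    obtain ⟨g₁, hg₁, hk⟩ := hk
    obtain ⟨g₂, hg₂, hl⟩ := hl
    obtain ⟨s₁, hs₁, hgs₁⟩ := exists_has hg₁
    obtain ⟨s₂, hs₂, hgs₂⟩ := exists_has hg₂
    obtain ⟨q, hqP, hq₁, hq₂⟩ := exists_third hns hs₁ hs₂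
    obtain ⟨x, hx, hxc⟩ := hqP.exists_isL
    have hxq : Has x q := ⟨x, self_mem_cent x, hx, hxc⟩
    rcases hv x hxc with h | h
    · exact hmix g₁ hg₁ q s₁ hqP.1 hs₁ hq₁ (hxq.of_dvd hqP.1 (by rw [h, hk])) hgs₁
    · exact hmix g₂ hg₂ q s₂ hqP.1 hs₂ hq₂ (hxq.of_dvd hqP.1 (by rw [h, hl])) hgs₂
  obtain ⟨g, hg, s, t, hs, ht, hst, hgs, hgt⟩ := hmix
  clear hk hl
  -- the other size
  rcases hv g hg with hgk | hgl
  · exact go hA hns hv hg hgk hs ht hst hgs hgt
  · exact go hA hns (fun x hx => (hv x hx).symm) hg hgl hs ht hst hgs hgt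
where
  /-- The size of a mixed centraliser first. -/
  go {G : Type u} [Group G] [Finite G] (hA : Anti G) (hns : ¬ Group.IsSolvable G) {k l : ℕ}
      (hv : ∀ x : G, x ∉ center G → cs x = k ∨ cs x = l) {g : G} (hg : g ∉ center G) (hgk : cs g = k)
      {s t : ℕ} (hs : s.Prime) (ht : t.Prime) (hst : s ≠ t) (hgs : Has g s) (hgt : Has g t) :
      False := by
    have habk : ∀ x : G, x ∉ center G → cs x = k → AbCent x := fun x hx e =>
      abCent_of_mixed hA hx hs ht hst (hgs.of_dvd hs (by rw [e, hgk])) (hgt.of_dvd ht (by rw [e, hgk]))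
    by_cases hl : ∃ g' : G, g' ∉ center G ∧ cs g' = l
    · obtain ⟨g', hg', hgl⟩ := hl
      obtain ⟨r, hr, hgr⟩ := exists_has hg'
      by_cases hr' : ∃ q, q.Prime ∧ q ≠ r ∧ Has g' q
      · obtain ⟨q, hq, hqr, hgq⟩ := hr'
        refine false_of_all hA hns hv (fun x hx => ?_) (fun x hx => ?_) hg hgk hg' hgl
        · rcases hv x hx with e | e
          · exact habk x hx e
          · exact abCent_of_mixed hA hx hq hr hqr (hgq.of_dvd hq (by rw [e, hgl]))
              (hgr.of_dvd hr (by rw [e, hgl]))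
        · rcases hv x hx with e | e
          · exact ⟨s, t, hs, ht, hst, hgs.of_dvd hs (by rw [e, hgk]), hgt.of_dvd ht (by rw [e, hgk])⟩
          · exact ⟨q, r, hq, hr, hqr, hgq.of_dvd hq (by rw [e, hgl]), hgr.of_dvd hr (by rw [e, hgl])⟩
      · push Not at hr'
        refine false_of_pure hA hns hr (fun q hq hqr x hx hxc => ?_) hg (habk g hg hgk) hgk
        have hxk : cs x = k := (hv x hxc).resolve_right fun e => hr' q hq hqr
          (Has.of_dvd hq (g := x) ⟨x, self_mem_cent x, hx, hxc⟩ (by rw [e, hgl]))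
        exact ⟨habk x hxc hxk, hxk⟩
    · push Not at hl
      refine false_of_pure hA hns hs (fun q _ _ x _ hxc => ?_) hg (habk g hg hgk) hgk
      have hxk : cs x = k := (hv x hxc).resolve_right (hl x hxc)
      exact ⟨habk x hxc hxk, hxk⟩

end Cfsg.Agent.ThreeSizes
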