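import Cfsg.Agent.ClassRankThree.Contain
import Cfsg.Agent.GroupStructure3.ClassGraph.Basic
import Cfsg.Agent.GStructB.TwoSizes
import Cfsg.Agent.Lib.Characters.Burnside
import Mathlib

/-!
Class sizes: prime parts of centralisers, primes of the central quotient.
-/

set_option autoImplicit false
set_option linter.unusedSectionVars false

namespace Cfsg.Agent.ThreeSizes

open Subgroup
open GroupStructure3.ClassGraph (cs mem_of_pow_mem)
open GStructB.TwoSizes (cent IsL mem_cent self_mem_cent isL_of_mem lp card_le_lp exists_sylow_in)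

universe u

variable {G : Type u} [Group G] [Finite G]

theorem cent_center_mul {z : G} (hz : z ∈ center G) (g : G) : cent (z * g) = cent g := by
  have hzc : ∀ x : G, Commute x z := fun x => mem_center_iff.1 hz x
  ext x
  refine ⟨fun h => mem_cent.2 ?_, fun h => mem_cent.2 ((hzc x).mul_right (mem_cent.1 h))⟩
  have := ((hzc x).inv_right).mul_right (mem_cent.1 h)
  rwa [inv_mul_cancel_left] at this

theorem cent_pow_ne {g : G} {k : ℕ} (h : g ^ k ∉ center G) : g ∉ center G := fun hg => h (pow_mem hg k)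

theorem commute_of_coprime {u a : G} (hc : (orderOf u).Coprime (orderOf a))
    (h : u * a * u⁻¹ * a⁻¹ ∈ center G) : Commute u a := by
  set z := u * a * u⁻¹ * a⁻¹ with hz
  have hzc : ∀ x : G, Commute z x := fun x => (mem_center_iff.1 h x).symm
  have hua : u * a * u⁻¹ = z * a := by rw [hz]; group
  have hau : a * u * a⁻¹ = z⁻¹ * u := by
    calc a * u * a⁻¹ = (u * a * u⁻¹ * a⁻¹)⁻¹ * u := by group
      _ = z⁻¹ * u := by rw [← hz]
  have h1 : z ^ orderOf a = 1 := by
    have h2 : (z * a) ^ orderOf a = 1 := by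
      rw [← hua, conj_pow, pow_orderOf_eq_one, mul_one, mul_inv_cancel]
    rwa [(hzc a).mul_pow, pow_orderOf_eq_one, mul_one] at h2
  have h3 : z ^ orderOf u = 1 := by
    have h2 : (z⁻¹ * u) ^ orderOf u = 1 := by
      rw [← hau, conj_pow, pow_orderOf_eq_one, mul_one, mul_inv_cancel]
    rwa [(hzc u).inv_left.mul_pow, pow_orderOf_eq_one, mul_one, inv_pow, inv_eq_one] at h2
  have h5 : z = 1 := orderOf_eq_one_iff.1 (Nat.eq_one_of_dvd_coprimes hc
    (orderOf_dvd_of_pow_eq_one h3) (orderOf_dvd_of_pow_eq_one h1))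
  rw [h5, one_mul] at hua
  exact mul_inv_eq_iff_eq_mul.1 hua

/-- Elements commuting modulo the centre with `d` normalise its centraliser. -/
theorem mem_normalizer_cent {g d : G} (h : g * d * g⁻¹ * d⁻¹ ∈ center G) :
    g ∈ normalizer (cent d : Set G) := by
  have e : cent (g * d * g⁻¹) = cent d := by
    rw [show g * d * g⁻¹ = (g * d * g⁻¹ * d⁻¹) * d by group, cent_center_mul h]
  refine mem_normalizer_iff.2 fun x => ⟨fun hx => ?_, fun hx => ?_⟩
  · have := GStructB.TwoSizes.conj_mem_cent (c := g) hx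
    rwa [e] at this
  · rw [← e] at hx
    have := GStructB.TwoSizes.conj_mem_cent (c := g⁻¹) hx
    simpa [mul_assoc] using this

theorem comm_inv_mem_center {g d : G} (h : g * d * g⁻¹ * d⁻¹ ∈ center G) :
    d * g * d⁻¹ * g⁻¹ ∈ center G := by
  have := inv_mem h
  rwa [show (g * d * g⁻¹ * d⁻¹)⁻¹ = d * g * d⁻¹ * g⁻¹ by group] at this

/-- A power of an element of `l`-power order has `l`-power order. -/
theorem isL_pow {l : ℕ} (hl : l.Prime) {g : G} (h : IsL l g) (k : ℕ) : IsL l (g ^ k) := by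
  obtain ⟨i, hi⟩ := h
  obtain ⟨j, -, hj⟩ := (Nat.dvd_prime_pow hl).1 (hi ▸ orderOf_pow_dvd k (x := g))
  exact ⟨j, hj⟩

theorem isL_mul {l : ℕ} (hl : l.Prime) {g k : G} (hg : IsL l g) (hk : IsL l k) (hc : Commute g k) :
    IsL l (g * k) := by
  obtain ⟨i, hi⟩ := hg
  obtain ⟨j, hj⟩ := hk
  have : orderOf (g * k) ∣ l ^ (i + j) := by
    rw [pow_add]
    exact hc.orderOf_mul_dvd_mul_orderOf.trans (by rw [hi, hj])
  obtain ⟨n, -, hn⟩ := (Nat.dvd_prime_pow hl).1 this
  exact ⟨n, hn⟩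

theorem isL_inv {l : ℕ} {g : G} (hg : IsL l g) : IsL l g⁻¹ := by
  obtain ⟨i, hi⟩ := hg
  exact ⟨i, by rw [orderOf_inv, hi]⟩

/-- A prime dividing the order of the central quotient. -/
def Pr (G : Type u) [Group G] (s : ℕ) : Prop := s.Prime ∧ s ∣ (center G).index

/-- `g` centralises a noncentral element of `s`-power order. -/
def Has (g : G) (s : ℕ) : Prop := ∃ x ∈ cent g, IsL s x ∧ x ∉ center G

theorem pr_of_isL {s : ℕ} (hs : s.Prime) {x : G} (hx : IsL s x) (hxc : x ∉ center G) : Pr G s := by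
  refine ⟨hs, ?_⟩
  obtain ⟨i, hi⟩ := hx
  have h1 : orderOf (QuotientGroup.mk x : G ⧸ center G) ∣ s ^ i := hi ▸
    orderOf_map_dvd (QuotientGroup.mk' (center G)) x
  obtain ⟨j, -, hj⟩ := (Nat.dvd_prime_pow hs).1 h1
  have hj0 : j ≠ 0 := by
    rintro rfl
    rw [pow_zero, orderOf_eq_one_iff, QuotientGroup.eq_one_iff] at hj
    exact hxc hj
  rw [index_eq_card]
  exact (dvd_pow_self s hj0).trans (hj ▸ orderOf_dvd_natCard _)

theorem Has.pr {g : G} {s : ℕ} (hs : s.Prime) (h : Has g s) : Pr G s := by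
  obtain ⟨x, -, hx, hxc⟩ := h
  exact pr_of_isL hs hx hxc

theorem Pr.exists_isL {s : ℕ} (h : Pr G s) : ∃ x : G, IsL s x ∧ x ∉ center G := by
  obtain ⟨hs, hd⟩ := h
  have := Fact.mk hs
  rw [index_eq_card] at hd
  obtain ⟨x', hx'⟩ := exists_prime_orderOf_dvd_card' s hd
  obtain ⟨x, rfl⟩ := QuotientGroup.mk_surjective x'
  obtain ⟨a, k, -, hk, hu⟩ := GStructB.PElements.exists_split s x
  refine ⟨x ^ k, ⟨a, hu⟩, fun hc => hk ?_⟩
  rw [← hx']
  exact orderOf_dvd_of_pow_eq_one (by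
    rw [← QuotientGroup.mk_pow]; exact (QuotientGroup.eq_one_iff _).2 hc)

/-- A noncentral element has a noncentral primary component. -/
theorem exists_component {g : G} (hg : g ∉ center G) :
    ∃ (s : ℕ) (y : G), s.Prime ∧ IsL s y ∧ y ∉ center G ∧ cent g ≤ cent y ∧ y ∈ cent g := by
  obtain ⟨s, hs, k, hk, hkc⟩ := GStructB.TwoSizes.exists_primary hg
  exact ⟨s, g ^ k, hs, hk, hkc, GStructB.TwoSizes.cent_le_pow g k, pow_mem (self_mem_cent g) k⟩

theorem exists_has {g : G} (hg : g ∉ center G) : ∃ s, s.Prime ∧ Has g s := by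
  obtain ⟨s, y, hs, hy, hyc, -, hyg⟩ := exists_component hg
  exact ⟨s, hs, y, hyg, hy, hyc⟩

theorem has_iff {g : G} {s : ℕ} (hs : s.Prime) :
    Has g s ↔ lp s (center G) < lp s (cent g) := by
  have := Fact.mk hs
  have hle : center G ≤ cent g := fun z hz => mem_cent.2 (mem_center_iff.1 hz g).symm
  constructor
  · rintro ⟨x, hx, ⟨i, hi⟩, hxc⟩
    obtain ⟨T, hTZ, hTp, hTc⟩ := exists_sylow_in (l := s) (center G)
    have hX : IsPGroup s (zpowers x) := IsPGroup.of_card (n := i) (by rw [Nat.card_zpowers, hi])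
    have hsup : IsPGroup s (zpowers x ⊔ T : Subgroup G) := by
      refine IsPGroup.to_sup_of_normal_right' hX hTp fun y _ => mem_normalizer_iff.2 fun t => ?_
      constructor
      · intro ht
        rwa [(mem_center_iff.1 (hTZ ht) y), mul_inv_cancel_right]
      · intro ht
        have h1 := mem_center_iff.1 (hTZ ht) y
        have h2 : y * t * y⁻¹ = t := by
          have : y * (y * t * y⁻¹) = (y * t * y⁻¹) * y := h1
          calc y * t * y⁻¹ = y⁻¹ * (y * (y * t * y⁻¹)) := by group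
            _ = y⁻¹ * ((y * t * y⁻¹) * y) := by rw [this]
            _ = t := by group
        rwa [h2] at ht
    rw [← hTc]
    refine lt_of_lt_of_le ?_ (card_le_lp hsup (sup_le (zpowers_le.2 hx) (hTZ.trans hle)))
    refine lt_of_le_of_ne (card_le_of_le le_sup_right) fun e => hxc ?_
    have := eq_of_le_of_card_ge (le_sup_right : T ≤ zpowers x ⊔ T) e.ge
    exact hTZ (this ▸ mem_sup_left (mem_zpowers x))
  · intro h
    obtain ⟨T, hTg, hTp, hTc⟩ := exists_sylow_in (l := s) (cent g)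
    by_contra hno
    refine absurd (hTc ▸ card_le_lp hTp (fun x hx => ?_ : T ≤ center G)) (not_le.2 h)
    by_contra hxc
    exact hno ⟨x, hTg hx, isL_of_mem hTp hx, hxc⟩

theorem card_cent_dvd {g g' : G} (h : cs g' ∣ cs g) : Nat.card (cent g) ∣ Nat.card (cent g') := by
  obtain ⟨k, hk⟩ := h
  have h1 := ClassRankThree.card_cent_mul_cs g
  have h2 := ClassRankThree.card_cent_mul_cs g'
  refine ⟨k, Nat.eq_of_mul_eq_mul_right
    (Nat.pos_of_ne_zero (GroupStructure3.ClassGraph.cs_ne_zero g')) ?_⟩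
  rw [h2, ← h1, hk]; ring

theorem Has.of_dvd {g g' : G} {s : ℕ} (hs : s.Prime) (h : Has g s) (hd : cs g' ∣ cs g) : Has g' s := by
  rw [has_iff hs] at h ⊢
  refine h.trans_le (Nat.pow_le_pow_right hs.pos ?_)
  exact (Nat.factorization_le_iff_dvd Nat.card_pos.ne' Nat.card_pos.ne').2 (card_cent_dvd hd) s

theorem isSolvable_of_center (h : Group.IsSolvable (G ⧸ center G)) : Group.IsSolvable G :=
  (Group.isSolvable_iff_subgroup_quotient (center G)).2
    ⟨Group.isSolvable_of_comm fun a b => Subtype.ext (mem_center_iff.1 b.2 a), h⟩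

theorem eq_pow_mul_pow {n s t : ℕ} (hn : n ≠ 0) (hs : s.Prime) (ht : t.Prime)
    (h : ∀ q, q.Prime → q ∣ n → q = s ∨ q = t) : ∃ a b, n = s ^ a * t ^ b := by
  obtain ⟨a, m, hm, rfl⟩ := Nat.exists_eq_pow_mul_and_not_dvd hn s hs.ne_one
  have hm0 : m ≠ 0 := right_ne_zero_of_mul hn
  refine ⟨a, m.primeFactorsList.length, ?_⟩
  congr 1
  refine Nat.eq_prime_pow_of_unique_prime_dvd hm0 fun {q} hq hqm => ?_
  rcases h q hq (dvd_mul_of_dvd_right hqm _) with rfl | rfl
  · exact absurd hqm hm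
  · rfl

theorem exists_third (hns : ¬ Group.IsSolvable G) {s t : ℕ} (hs : s.Prime) (ht : t.Prime) :
    ∃ q, Pr G q ∧ q ≠ s ∧ q ≠ t := by
  by_contra hno
  push Not at hno
  refine hns (isSolvable_of_center ?_)
  obtain ⟨a, b, hab⟩ := eq_pow_mul_pow (index_ne_zero_of_finite (H := center G)) hs ht
    fun q hq hqd => by
      by_cases h : q = s
      · exact Or.inl h
      · exact Or.inr (hno q ⟨hq, hqd⟩ h)
  exact Cfsg.Agent.Characters.burnside_pa_qb hs ht (by rw [← index_eq_card, hab])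

end Cfsg.Agent.ThreeSizes
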