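import Cfsg.Agent.S0205
import Cfsg.Agent.Lib.PGroups.UniqueSubgroup
import Mathlib

/-!
Groups acting on two abelian groups of coprime exponents such that every element of prime order
has trivial norm: if both primes divide the order, some element has order a product of one of
them and a different prime.
-/

set_option autoImplicit false

namespace Cfsg.Agent.ThreeSizes

open Finset
open scoped commutatorElement

universe u v w

variable {K : Type u} [Group K] {V : Type v} [CommGroup V]

/-- The norm of every element of prime order is trivial. -/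
def ZeroNorm (ρ : K →* MulAut V) : Prop :=
  ∀ e : K, (orderOf e).Prime → ∀ w : V, ∏ i ∈ range (orderOf e), ρ (e ^ i) w = 1

theorem norm_eq_one {ρ : K →* MulAut V} (hρ : ZeroNorm ρ) {e : K} {m : ℕ} (hm : m.Prime)
    (he : e ≠ 1) (hem : e ^ m = 1) (w : V) : ∏ i ∈ range m, ρ (e ^ i) w = 1 := by
  have := Fact.mk hm
  have h : orderOf e = m := orderOf_eq_prime hem he
  have := hρ e (h ▸ hm) w
  rwa [h] at this

theorem eq_one_of_pow {p l : ℕ} [Fact p.Prime] (hV : IsPGroup p V) (hl : l.Prime) (hne : l ≠ p)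
    {w : V} (hw : w ^ l = 1) : w = 1 := by
  obtain ⟨k, hk⟩ := hV w
  refine orderOf_eq_one_iff.1 (Nat.eq_one_of_dvd_coprimes
    (Nat.Coprime.pow_left k ((Nat.coprime_primes Fact.out hl).2 hne.symm))
    (orderOf_dvd_of_pow_eq_one hk) (orderOf_dvd_of_pow_eq_one hw))

/-- The norm trick. -/
theorem norm_contra {ρ : K →* MulAut V} (hρ : ZeroNorm ρ) [Nontrivial V] {a x : K} {p q r : ℕ}
    (hp : p.Prime) (hq : q.Prime) (hoa : orderOf a = p) (hox : orderOf x = q)
    (hxa : x ∉ Subgroup.zpowers a) (hr : x * a * x⁻¹ = a ^ r)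
    (hall : ∀ j : ℕ, (a ^ j * x) ^ q = 1) (hV : ∀ w : V, w ^ p = 1 → w = 1) : False := by
  classical
  have := Fact.mk hq
  obtain ⟨w, hw⟩ := exists_ne (1 : V)
  refine hw (hV w ?_)
  have h1 : ∏ j ∈ range p, ∏ i ∈ range q, ρ ((a ^ j * x) ^ i) w = 1 := by
    refine Finset.prod_eq_one fun j _ => norm_eq_one hρ hq ?_ (hall j) w
    intro h
    exact hxa (eq_inv_of_mul_eq_one_right h ▸ inv_mem (pow_mem (Subgroup.mem_zpowers a) j))
  rw [Finset.prod_comm] at h1
  obtain ⟨k, rfl⟩ : ∃ k, q = k + 1 := ⟨q - 1, by have := hq.pos; omega⟩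
  rw [Finset.prod_range_succ'] at h1
  have h0 : ∏ j ∈ range p, ρ ((a ^ j * x) ^ 0) w = w ^ p := by simp
  rw [h0, Finset.prod_eq_one, one_mul] at h1
  · exact h1
  intro i hi
  set s := ∑ l ∈ range (i + 1), r ^ l with hsdef
  have hs : a ^ s ≠ 1 := by
    intro hs
    have h2 : (a * x) ^ (i + 1) = x ^ (i + 1) := by
      have h3 := Cfsg.Agent.PGroups.UniqueSubgroup.mul_pow_eq hr 1 (i + 1)
      rwa [pow_one, one_mul, ← hsdef, hs, one_mul] at h3
    have hi' : i + 1 < k + 1 := by have := Finset.mem_range.mp hi; omega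
    have hc : (i + 1).Coprime (k + 1) :=
      (hq.coprime_iff_not_dvd.mpr fun h => absurd (Nat.le_of_dvd (Nat.succ_pos i) h)
        (by omega)).symm
    have hax : orderOf (a * x) = k + 1 := by
      have h := hall 1
      rw [pow_one] at h
      exact orderOf_eq_prime h fun h1' => hxa (eq_inv_of_mul_eq_one_right h1' ▸
        inv_mem (Subgroup.mem_zpowers a))
    have heq : (a * x) ^ 1 = x ^ 1 := by
      obtain ⟨m, -, hm⟩ := Nat.exists_mul_mod_eq_one_of_coprime hc hq.one_lt
      calc (a * x) ^ 1 = ((a * x) ^ (i + 1)) ^ m := by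
            rw [← pow_mul, ← pow_mod_orderOf _ ((i + 1) * m), hax, hm]
        _ = (x ^ (i + 1)) ^ m := by rw [h2]
        _ = x ^ 1 := by rw [← pow_mul, ← pow_mod_orderOf x ((i + 1) * m), hox, hm]
    rw [pow_one, pow_one, mul_eq_right] at heq
    rw [heq, orderOf_one] at hoa
    exact hp.ne_one hoa.symm
  have h4 := norm_eq_one hρ hp hs (by
    rw [← pow_mul, mul_comm, pow_mul, ← hoa, pow_orderOf_eq_one, one_pow]) (ρ (x ^ (i + 1)) w)
  refine (Finset.prod_congr rfl fun j _ => ?_).trans h4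
  rw [Cfsg.Agent.PGroups.UniqueSubgroup.mul_pow_eq hr j (i + 1), map_mul, MulAut.mul_apply,
    ← pow_mul, mul_comm s j]

/-- An element of prime order normalising a subgroup of prime order centralises it. -/
theorem commute_and_mem [Finite K] {ρ : K →* MulAut V} (hρ : ZeroNorm ρ) [Nontrivial V] {a x : K}
    {p q : ℕ} (hp : p.Prime) (hq : q.Prime) (hoa : orderOf a = p) (hox : orderOf x = q)
    (hnorm : x * a * x⁻¹ ∈ Subgroup.zpowers a) (hV : ∀ w : V, w ^ p = 1 → w = 1) :
    x * a = a * x ∧ (p = q → x ∈ Subgroup.zpowers a) := by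
  by_cases hxa : x ∈ Subgroup.zpowers a
  · obtain ⟨k, rfl⟩ := hxa
    exact ⟨((Commute.refl a).zpow_left k).eq, fun _ => Subgroup.zpow_mem_zpowers a k⟩
  obtain ⟨r, hr⟩ := Submonoid.mem_powers_iff _ _ |>.mp (mem_powers_iff_mem_zpowers.mpr hnorm)
  replace hr := hr.symm
  have hx1 : x ^ q = 1 := hox ▸ pow_orderOf_eq_one x
  have ha1 : a ^ p = 1 := hoa ▸ pow_orderOf_eq_one a
  have hnc := fun hall => norm_contra hρ hp hq hoa hox hxa hr hall hV
  by_cases hc : x * a = a * x
  · refine ⟨hc, fun hpq => (hnc fun j => ?_).elim⟩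
    rw [((Commute.pow_left (Commute.symm hc : Commute a x) j)).mul_pow, hx1, mul_one, ← hpq,
      ← pow_mul, mul_comm, pow_mul, ha1, one_pow]
  · refine (hnc fun j => ?_).elim
    rw [Cfsg.Agent.PGroups.UniqueSubgroup.mul_pow_eq hr, hx1, mul_one, mul_comm, pow_mul]
    have hS : a ^ (∑ i ∈ range q, r ^ i) = 1 := by
      rw [← orderOf_dvd_iff_pow_eq_one, hoa]
      by_contra hS
      refine hc (mul_inv_eq_iff_eq_mul.mp ?_)
      have hrq : a ^ (r ^ q) = a ^ 1 := by
        rw [← Cfsg.Agent.PGroups.UniqueSubgroup.pow_conj_eq hr q, hx1, pow_one]; group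
      rw [hr]
      conv_rhs => rw [← pow_one a]
      rw [pow_eq_pow_iff_modEq, hoa] at hrq ⊢
      rcases Nat.eq_zero_or_pos r with rfl | hr0
      · rw [zero_pow hq.ne_zero] at hrq; exact hrq
      · rw [Nat.ModEq.comm, Nat.modEq_iff_dvd' (Nat.one_le_pow _ _ hr0)] at hrq
        rw [Nat.ModEq.comm, Nat.modEq_iff_dvd' hr0]
        rw [← geom_sum_mul_of_one_le hr0] at hrq
        exact (hp.dvd_mul.mp hrq).resolve_left hS
    rw [hS, one_pow]

/-- An involution acts by inversion. -/
theorem inv_of_involution {ρ : K →* MulAut V} (hρ : ZeroNorm ρ) {e : K} (he : orderOf e = 2) (w : V) :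
    ρ e w = w⁻¹ := by
  have h := hρ e (he ▸ Nat.prime_two) w
  rw [he, Finset.prod_range_succ, Finset.prod_range_one, pow_zero, pow_one, map_one] at h
  exact eq_inv_of_mul_eq_one_right h

/-- An element of prime order does not act trivially. -/
theorem not_trivial {ρ : K →* MulAut V} (hρ : ZeroNorm ρ) [Nontrivial V] {e : K}
    (he : (orderOf e).Prime) (hV : ∀ w : V, w ^ orderOf e = 1 → w = 1) (h : ρ e = 1) : False := by
  obtain ⟨w, hw⟩ := exists_ne (1 : V)
  refine hw (hV w ?_)
  have h1 := hρ e he w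
  simpa [map_pow, h] using h1

variable [Finite K] {Vt : Type w} [CommGroup Vt]

/-- Two acting primes give an element of mixed order. -/
theorem exists_orderOf_mul {s t : ℕ} [Fact s.Prime] [Fact t.Prime] (hst : s ≠ t)
    [Nontrivial V] (hVs : IsPGroup s V) {ρ : K →* MulAut V} (hρ : ZeroNorm ρ)
    [Nontrivial Vt] (hVt : IsPGroup t Vt) {σ : K →* MulAut Vt} (hσ : ZeroNorm σ)
    (hs : s ∣ Nat.card K) (ht : t ∣ Nat.card K) :
    ∃ (e : K) (u l : ℕ), (u = s ∨ u = t) ∧ l.Prime ∧ l ≠ u ∧ orderOf e = u * l := by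
  classical
  have hsp : s.Prime := Fact.out
  have htp : t.Prime := Fact.out
  have hmul : ∀ (a x : K) (l u : ℕ), l.Prime → u.Prime → l ≠ u → orderOf a = l → orderOf x = u →
      x * a = a * x → orderOf (x * a) = u * l := by
    intro a x l u hl hu hne ha hx hc
    rw [(show Commute x a from hc).orderOf_mul_eq_mul_orderOf_of_coprime
      (by rw [ha, hx]; exact (Nat.coprime_primes hu hl).2 hne.symm), ha, hx]
  have hbad : ∀ e : K, (orderOf e).Prime → ρ e = 1 → σ e = 1 → False := by
    intro e he h1 h2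
    by_cases hes : orderOf e = s
    · exact not_trivial hσ he (fun w => eq_one_of_pow hVt he (hes ▸ hst)) h2
    · exact not_trivial hρ he (fun w => eq_one_of_pow hVs he hes) h1
  obtain ⟨gs, hgs⟩ := exists_prime_orderOf_dvd_card' s hs
  obtain ⟨gt, hgt⟩ := exists_prime_orderOf_dvd_card' t ht
  by_cases h2 : 2 ∣ Nat.card K
  · -- a unique involution
    have := Fact.mk Nat.prime_two
    obtain ⟨τ, hτ⟩ := exists_prime_orderOf_dvd_card' 2 h2
    have huniq : ∀ τ' : K, orderOf τ' = 2 → τ' = τ := by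
      intro τ' hτ'
      by_contra hne
      have hx : τ'⁻¹ * τ ≠ 1 := fun h => hne (inv_mul_eq_one.1 h)
      set x := τ'⁻¹ * τ
      have hρx : ρ x = 1 := by
        ext w
        show ρ (τ'⁻¹ * τ) w = w
        rw [map_mul, MulAut.mul_apply, inv_of_involution hρ hτ,
          inv_of_involution hρ (show orderOf τ'⁻¹ = 2 by rwa [orderOf_inv]), inv_inv]
      have hσx : σ x = 1 := by
        ext w
        show σ (τ'⁻¹ * τ) w = w
        rw [map_mul, MulAut.mul_apply, inv_of_involution hσ hτ,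
          inv_of_involution hσ (show orderOf τ'⁻¹ = 2 by rwa [orderOf_inv]), inv_inv]
      obtain ⟨l, hl, hlx⟩ := Nat.exists_prime_and_dvd (mt orderOf_eq_one_iff.1 hx)
      have ho : orderOf (x ^ (orderOf x / l)) = l := orderOf_pow_orderOf_div (orderOf_pos x).ne' hlx
      exact hbad _ (ho ▸ hl) (by rw [map_pow, hρx, one_pow]) (by rw [map_pow, hσx, one_pow])
    have hcomm : ∀ g : K, g * τ = τ * g := fun g =>
      mul_inv_eq_iff_eq_mul.1 (huniq _ (by
        rw [← hτ]; exact orderOf_injective (MulAut.conj g).toMonoidHom (MulAut.conj g).injective τ))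
    by_cases hs2 : s = 2
    · have ht2 : t ≠ 2 := fun h => hst (hs2.trans h.symm)
      exact ⟨gt * τ, t, 2, Or.inr rfl, Nat.prime_two, ht2.symm,
        hmul τ gt 2 t Nat.prime_two htp ht2.symm hτ hgt (hcomm gt)⟩
    · exact ⟨gs * τ, s, 2, Or.inl rfl, Nat.prime_two, Ne.symm hs2,
        hmul τ gs 2 s Nat.prime_two hsp (Ne.symm hs2) hτ hgs (hcomm gs)⟩
  · -- odd order: a normal subgroup of prime order
    have : Group.IsSolvable K :=
      Cfsg.Agent.S0205.result (Nat.not_even_iff_odd.1 fun he => h2 he.two_dvd)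
    obtain ⟨m, hm⟩ := (Group.isSolvable_def K).1 this
    have hex : ∃ n, derivedSeries K n ≠ ⊥ ∧ derivedSeries K (n + 1) = ⊥ := by
      by_contra hno
      push Not at hno
      have : ∀ n, derivedSeries K n ≠ ⊥ := by
        intro n
        induction n with
        | zero =>
          rw [derivedSeries_zero]
          intro h
          have : gs ∈ (⊥ : Subgroup K) := h ▸ Subgroup.mem_top gs
          rw [Subgroup.mem_bot.1 this, orderOf_one] at hgs
          exact hsp.ne_one hgs.symm
        | succ n ih => exact hno n ih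
      exact this m hm
    obtain ⟨n, hn0, hn1⟩ := hex
    set A := derivedSeries K n
    have hAn : A.Normal := derivedSeries_normal K n
    have hAc : ∀ a ∈ A, ∀ b ∈ A, a * b = b * a := by
      intro a ha b hb
      have : ⁅a, b⁆ ∈ (⊥ : Subgroup K) := by
        rw [← hn1, derivedSeries_succ]
        exact Subgroup.commutator_mem_commutator ha hb
      exact commutatorElement_eq_one_iff_mul_comm.1 (Subgroup.mem_bot.1 this)
    obtain ⟨l, hl, hlA⟩ := Nat.exists_prime_and_dvd (mt Subgroup.card_eq_one.1 hn0)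
    have := Fact.mk hl
    obtain ⟨⟨a, haA⟩, ha⟩ := exists_prime_orderOf_dvd_card' (G := A) l hlA
    rw [Subgroup.orderOf_mk] at ha
    have hinv : ∀ g : K, g * a * g⁻¹ ∈ Subgroup.zpowers a := by
      intro g
      have hb : g * a * g⁻¹ ∈ A := hAn.conj_mem a haA g
      have hbo : orderOf (g * a * g⁻¹) = l := by
        rw [← ha]; exact orderOf_injective (MulAut.conj g).toMonoidHom (MulAut.conj g).injective a
      have hnm : g * a * g⁻¹ * a * (g * a * g⁻¹)⁻¹ ∈ Subgroup.zpowers a := by
        rw [hAc _ hb _ haA, mul_inv_cancel_right]; exact Subgroup.mem_zpowers a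
      by_cases hls : l = s
      · exact (commute_and_mem hσ hl hl ha hbo hnm fun w => eq_one_of_pow hVt hl (hls ▸ hst)).2 rfl
      · exact (commute_and_mem hρ hl hl ha hbo hnm fun w => eq_one_of_pow hVs hl hls).2 rfl
    by_cases hls : l = s
    · have hlt : l ≠ t := hls ▸ hst
      exact ⟨gt * a, t, l, Or.inr rfl, hl, hlt, hmul a gt l t hl htp hlt ha hgt
        (commute_and_mem hσ hl htp ha hgt (hinv gt) fun w => eq_one_of_pow hVt hl hlt).1⟩
    · exact ⟨gs * a, s, l, Or.inl rfl, hl, hls, hmul a gs l s hl hsp hls ha hgs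
        (commute_and_mem hρ hl hsp ha hgs (hinv gs) fun w => eq_one_of_pow hVs hl hls).1⟩

end Cfsg.Agent.ThreeSizes
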