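import Cfsg.Agent.ThreeSizes.Basic
import Cfsg.Agent.ThreeSizes.Norm

/-!
A centraliser which is the centraliser of each of its noncentral elements of two prime orders
cannot lack Sylow subgroups for both primes.
-/

set_option autoImplicit false
set_option linter.unusedSectionVars false

namespace Cfsg.Agent.ThreeSizes

open Subgroup
open GroupStructure3.ClassGraph (cs)
open GStructB.TwoSizes (cent IsL mem_cent self_mem_cent isL_of_mem lp card_le_lp)
open scoped IsMulCommutative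

universe u

variable {G : Type u} [Group G] [Finite G]

/-- `cent x = D` for every noncentral `u`-element `x` of `D`. -/
def Rigid (D : Subgroup G) (u : ℕ) : Prop := ∀ x ∈ D, IsL u x → x ∉ center G → cent x = D

variable {D : Subgroup G} {u : ℕ}

theorem Rigid.commute (h : Rigid D u) {x y : G} (hx : x ∈ D) (hxu : IsL u x) (hy : y ∈ D) :
    Commute x y := by
  by_cases hc : x ∈ center G
  · exact (mem_center_iff.1 hc y).symm
  · have : y ∈ cent x := by rw [h x hx hxu hc]; exact hy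
    exact (mem_cent.1 this).symm

/-- The `u`-elements of a rigid centraliser. -/
def Rigid.part (hu : u.Prime) (h : Rigid D u) : Subgroup G where
  carrier := {x | x ∈ D ∧ IsL u x}
  one_mem' := ⟨one_mem _, 0, by simp⟩
  mul_mem' := fun {a b} ha hb => ⟨mul_mem ha.1 hb.1, isL_mul hu ha.2 hb.2 (h.commute ha.1 ha.2 hb.1)⟩
  inv_mem' := fun {a} ha => ⟨inv_mem ha.1, isL_inv ha.2⟩

theorem Rigid.part_isPGroup (hu : u.Prime) (h : Rigid D u) : IsPGroup u (h.part hu) := by
  rintro ⟨x, hx, i, hi⟩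
  exact ⟨i, Subtype.ext (by rw [SubmonoidClass.coe_pow, ← hi]; exact pow_orderOf_eq_one x)⟩

theorem Rigid.part_conj (hu : u.Prime) (h : Rigid D u) {g x : G} (hg : g ∈ normalizer (D : Set G))
    (hx : x ∈ h.part hu) : g * x * g⁻¹ ∈ h.part hu :=
  ⟨(mem_normalizer_iff.1 hg x).1 hx.1, GStructB.TwoSizes.isL_conj hx.2 g⟩

theorem Rigid.normalizer_part (hu : u.Prime) (h : Rigid D u) :
    normalizer (D : Set G) ≤ normalizer (h.part hu : Set G) := fun g hg =>
  mem_normalizer_iff.2 fun x => ⟨fun hx => h.part_conj hu hg hx, fun hx => by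
    have := h.part_conj hu (inv_mem hg) hx
    simpa [mul_assoc] using this⟩

/-- If a rigid centraliser lacks a Sylow `u`-subgroup, its normaliser grows by `u`. -/
theorem Rigid.exists_normalizing (hu : u.Prime) (h : Rigid D u)
    (hex : ∃ x ∈ D, IsL u x ∧ x ∉ center G) (hidx : u ∣ D.index) :
    ∃ y ∈ normalizer (D : Set G), y ∉ D ∧ IsL u y := by
  have := Fact.mk hu
  set T := h.part hu with hT
  have hTp : IsPGroup u T := h.part_isPGroup hu
  obtain ⟨n, hn⟩ := hTp.exists_card_eq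
  have hTD : T ≤ D := fun x hx => hx.1
  have hdvd : u ^ (n + 1) ∣ Nat.card G := by
    rw [← D.card_mul_index, pow_succ]
    exact mul_dvd_mul (hn ▸ card_dvd_of_le hTD) hidx
  have hTn : (T.comap (normalizer (T : Set G)).subtype).Normal := Subgroup.normal_in_normalizer
  obtain ⟨y', hy'⟩ := exists_prime_orderOf_dvd_card' u (Sylow.prime_dvd_card_quotient_normalizer hdvd hn)
  obtain ⟨⟨y, hy⟩, rfl⟩ := QuotientGroup.mk_surjective y'
  have hyT : y ∉ T := by
    intro hyT
    rw [(QuotientGroup.eq_one_iff _).2 (show (⟨y, hy⟩ : normalizer (T : Set G)) ∈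
      T.comap (normalizer (T : Set G)).subtype from hyT), orderOf_one] at hy'
    exact hu.ne_one hy'.symm
  have hyu : y ^ u ∈ T := by
    have h1 := pow_orderOf_eq_one ((⟨y, hy⟩ : normalizer (T : Set G)) :
      _ ⧸ T.comap (normalizer (T : Set G)).subtype)
    rw [hy', ← QuotientGroup.mk_pow, QuotientGroup.eq_one_iff] at h1
    exact h1
  have hyL : IsL u y := by
    obtain ⟨i, hi⟩ := hyu.2
    have : orderOf y ∣ u ^ (i + 1) := orderOf_dvd_of_pow_eq_one (by
      rw [pow_succ', pow_mul, ← hi, pow_orderOf_eq_one])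
    obtain ⟨j, -, hj⟩ := (Nat.dvd_prime_pow hu).1 this
    exact ⟨j, hj⟩
  refine ⟨y, ?_, fun hyD => hyT ⟨hyD, hyL⟩, hyL⟩
  obtain ⟨x, hxD, hxu, hxc⟩ := hex
  have hx' : y * x * y⁻¹ ∈ T := (mem_normalizer_iff.1 hy x).1 ⟨hxD, hxu⟩
  have hxc' : y * x * y⁻¹ ∉ center G := fun hc => hxc (by
    simpa [mul_assoc] using (inferInstance : (center G).Normal).conj_mem _ hc y⁻¹)
  have e1 : cent x = D := h x hxD hxu hxc
  have e2 : cent (y * x * y⁻¹) = D := h _ hx'.1 hx'.2 hxc'
  refine mem_normalizer_iff.2 fun w => ⟨fun hw => ?_, fun hw => ?_⟩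
  · rw [← e2]; exact GStructB.TwoSizes.conj_mem_cent (e1.ge hw)
  · have := GStructB.TwoSizes.conj_mem_cent (c := y⁻¹) (e2.ge hw)
    simpa [mul_assoc, e1] using this

/-- A `u`-element and an element of coprime order, commuting, outside `D` in its normaliser. -/
theorem Rigid.no_mixed (hu : u.Prime) (h : Rigid D u)
    (hex : ∃ x ∈ D, IsL u x ∧ x ∉ center G) {g k : G} (hg : g ∈ normalizer (D : Set G))
    (hgu : IsL u g) (hgD : g ∉ D) (hk : k ∈ normalizer (D : Set G)) (hkD : k ∉ D)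
    (hcop : (orderOf g).Coprime (orderOf k)) (hgk : Commute g k) : False := by
  have := Fact.mk hu
  set T := h.part hu with hT
  have hTp : IsPGroup u T := h.part_isPGroup hu
  have hgT : zpowers g ≤ normalizer (T : Set G) := zpowers_le.2 (h.normalizer_part hu hg)
  have hgp : IsPGroup u (zpowers g) := by
    obtain ⟨i, hi⟩ := hgu
    exact IsPGroup.of_card (n := i) (by rw [Nat.card_zpowers, hi])
  have hQ : IsPGroup u (zpowers g ⊔ T : Subgroup G) := IsPGroup.to_sup_of_normal_right' hgp hTp hgT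
  obtain ⟨x, hxD, hxu, hxc⟩ := hex
  obtain ⟨d, hdT, hdc, hd⟩ := GStructB.TwoSizes.exists_step (D := center G) hQ
    (le_sup_right : T ≤ zpowers g ⊔ T) (sup_le hgT Subgroup.le_normalizer)
    (by rw [normalizer_eq_top]; exact le_top) fun hle => hxc (hle ⟨hxD, hxu⟩)
  have hdg := hd g (mem_sup_left (mem_zpowers g))
  -- `d` normalises the centraliser of `g`
  have hdn := mem_normalizer_cent (comm_inv_mem_center hdg)
  have hkg : k ∈ cent g := mem_cent.2 hgk.symm
  set c := d * k * d⁻¹ * k⁻¹ with hc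
  have hc1 : c ∈ cent g := mul_mem ((mem_normalizer_iff.1 hdn k).1 hkg) (inv_mem hkg)
  have hc2 : c ∈ T := by
    rw [hc, show d * k * d⁻¹ * k⁻¹ = d * (k * d⁻¹ * k⁻¹) by group]
    exact mul_mem hdT (h.part_conj hu hk (inv_mem hdT))
  have hcZ : c ∈ center G := by
    by_contra hcc
    refine hgD ?_
    rw [← h c hc2.1 hc2.2 hcc]
    exact mem_cent.2 (mem_cent.1 hc1).symm
  refine hkD ?_
  rw [← h d hdT.1 hdT.2 hdc]
  refine mem_cent.2 (commute_of_coprime ?_ hcZ).symm
  -- the order of `d` is prime to that of `k`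
  obtain ⟨i, hi⟩ := hdT.2
  obtain ⟨j, hj⟩ := hgu
  rcases Nat.eq_zero_or_pos j with rfl | hj0
  · exact absurd (by rw [orderOf_eq_one_iff.1 (hj.trans (pow_zero u))]; exact one_mem D) hgD
  rw [hi]
  exact Nat.Coprime.pow_left i (Nat.Coprime.coprime_dvd_left (hj ▸ dvd_pow_self u hj0.ne') hcop)

/-- The product of the first `n` conjugates. -/
def prodConj (g d : G) : ℕ → G
  | 0 => 1
  | n + 1 => prodConj g d n * (g ^ n * d * (g ^ n)⁻¹)

theorem prodConj_succ (g d : G) : ∀ n, prodConj g d (n + 1) = d * (g * prodConj g d n * g⁻¹)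
  | 0 => by simp [prodConj]
  | n + 1 => by
    have ih := prodConj_succ g d n
    calc prodConj g d (n + 2)
        = prodConj g d (n + 1) * (g ^ (n + 1) * d * (g ^ (n + 1))⁻¹) := rfl
      _ = d * (g * prodConj g d n * g⁻¹) * (g ^ (n + 1) * d * (g ^ (n + 1))⁻¹) := by rw [ih]
      _ = d * (g * (prodConj g d n * (g ^ n * d * (g ^ n)⁻¹)) * g⁻¹) := by
        simp only [pow_succ', mul_inv_rev]; group
      _ = d * (g * prodConj g d (n + 1) * g⁻¹) := rfl

theorem Rigid.prodConj_mem (hu : u.Prime) (h : Rigid D u) {g d : G}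
    (hg : g ∈ normalizer (D : Set G)) (hd : d ∈ h.part hu) :
    ∀ n, prodConj g d n ∈ h.part hu
  | 0 => one_mem _
  | n + 1 => mul_mem (h.prodConj_mem hu hg hd n) (h.part_conj hu (pow_mem hg n) hd)

/-- Norms of elements outside `D` are central. -/
theorem Rigid.prodConj_center (hu : u.Prime) (h : Rigid D u) {g d : G}
    (hg : g ∈ normalizer (D : Set G)) (hgD : g ∉ D) {n : ℕ} (hn : g ^ n ∈ D) (hd : d ∈ h.part hu) :
    prodConj g d n ∈ center G := by
  by_contra hc
  set P := prodConj g d n with hP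
  have hPT := h.prodConj_mem hu hg hd n
  have h1 : g ^ n * d * (g ^ n)⁻¹ = d :=
    mul_inv_eq_iff_eq_mul.2 (h.commute hd.1 hd.2 hn).eq.symm
  have h2 : d * (g * P * g⁻¹) = P * d := by
    rw [← prodConj_succ]
    show P * (g ^ n * d * (g ^ n)⁻¹) = _
    rw [h1]
  rw [← (h.commute hd.1 hd.2 hPT.1).eq] at h2
  have h3 : g * P * g⁻¹ = P := mul_left_cancel h2
  refine hgD ?_
  rw [← h P hPT.1 hPT.2 hc]
  exact mem_cent.2 (mul_inv_eq_iff_eq_mul.1 h3)

/-- The action of `N(D)/D` on the `u`-part of `D` modulo the centre. -/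
theorem Rigid.exists_action (hu : u.Prime) (h : Rigid D u)
    (hex : ∃ x ∈ D, IsL u x ∧ x ∉ center G) :
    ∃ (V : Type u) (_ : CommGroup V) (_ : Nontrivial V) (ρ : ↥(normalizer (D : Set G)) ⧸
      D.subgroupOf (normalizer (D : Set G)) →* MulAut V), IsPGroup u V ∧ ZeroNorm ρ := by
  classical
  set N := normalizer (D : Set G) with hN
  set π := QuotientGroup.mk' (center G)
  set T := h.part hu with hT
  set W := T.map π with hW
  have hWc : IsMulCommutative W := ⟨⟨by
    rintro ⟨_, a, ha, rfl⟩ ⟨_, b, hb, rfl⟩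
    exact Subtype.ext (show π a * π b = π b * π a by
      rw [← map_mul, ← map_mul, (h.commute ha.1 ha.2 hb.1).eq])⟩⟩
  have hWn : Nontrivial W := by
    obtain ⟨x, hxD, hxu, hxc⟩ := hex
    exact (nontrivial_iff_ne_bot _).2 fun e => hxc ((QuotientGroup.eq_one_iff x).1
      (mem_bot.1 (e ▸ mem_map_of_mem π (show x ∈ T from ⟨hxD, hxu⟩))))
  have hNW : ∀ g : N, π g ∈ normalizer (W : Set (G ⧸ center G)) := by
    intro g
    exact le_normalizer_map π (mem_map_of_mem π (h.normalizer_part hu g.2))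
  let φ : N →* MulAut W := (normalizerMonoidHom W).comp
    ((π.comp N.subtype).codRestrict (normalizer (W : Set (G ⧸ center G))) hNW)
  have hφ : ∀ (g : N) (w : W), (φ g w : G ⧸ center G) = π g * w * (π g)⁻¹ := fun g w => rfl
  have hker : D.subgroupOf N ≤ φ.ker := by
    intro g hg
    rw [MonoidHom.mem_ker]
    ext w
    obtain ⟨_, a, ha, rfl⟩ := w
    rw [hφ]
    show π g * π a * (π g)⁻¹ = π a
    rw [← map_inv, ← map_mul, ← map_mul]
    exact congrArg π (mul_inv_eq_iff_eq_mul.2 (h.commute ha.1 ha.2 hg).eq.symm)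
  refine ⟨W, inferInstance, hWn, QuotientGroup.lift _ φ hker, (h.part_isPGroup hu).map π, ?_⟩
  intro e he w
  obtain ⟨⟨g, hg⟩, rfl⟩ := QuotientGroup.mk_surjective e
  obtain ⟨_, a, ha, rfl⟩ := w
  set l := orderOf ((⟨g, hg⟩ : N) : N ⧸ D.subgroupOf N) with hl
  have hgD : g ∉ D := fun hgD => he.ne_one (by
    rw [hl, orderOf_eq_one_iff, QuotientGroup.eq_one_iff]; exact hgD)
  have hgl : g ^ l ∈ D := by
    have h1 := pow_orderOf_eq_one ((⟨g, hg⟩ : N) : N ⧸ D.subgroupOf N)
    rw [← hl, ← QuotientGroup.mk_pow, QuotientGroup.eq_one_iff] at h1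
    exact h1
  have key : ∀ n, ((∏ i ∈ Finset.range n, ((QuotientGroup.lift (D.subgroupOf N) φ hker)
      (((⟨g, hg⟩ : N) : N ⧸ D.subgroupOf N) ^ i) ⟨π a, mem_map_of_mem π ha⟩ : W)) : W) =
      (⟨π (prodConj g a n), mem_map_of_mem π (h.prodConj_mem hu hg ha n)⟩ : W) := by
    intro n
    induction n with
    | zero => exact Subtype.ext (map_one π).symm
    | succ n ih =>
      rw [Finset.prod_range_succ, ih, ← QuotientGroup.mk_pow, QuotientGroup.lift_mk]
      refine Subtype.ext ?_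
      show π (prodConj g a n) * (φ ((⟨g, hg⟩ : N) ^ n) ⟨π a, _⟩ : G ⧸ center G) = π (prodConj g a (n + 1))
      rw [hφ]
      simp only [prodConj, map_mul, map_inv, SubmonoidClass.coe_pow]
  refine (key l).trans (Subtype.ext ?_)
  exact (QuotientGroup.eq_one_iff _).2 (h.prodConj_center hu hg hgD hgl ha)

/-- No centraliser is rigid for two primes both dividing its index. -/
theorem no_two {s t : ℕ} (hs : s.Prime) (ht : t.Prime) (hst : s ≠ t)
    (hS : Rigid D s) (hT : Rigid D t)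
    (hsx : ∃ x ∈ D, IsL s x ∧ x ∉ center G) (htx : ∃ x ∈ D, IsL t x ∧ x ∉ center G)
    (hsi : s ∣ D.index) (hti : t ∣ D.index) : False := by
  have := Fact.mk hs
  have := Fact.mk ht
  obtain ⟨Vs, _, _, ρ, hVs, hρ⟩ := hS.exists_action hs hsx
  obtain ⟨Vt, _, _, σ, hVt, hσ⟩ := hT.exists_action ht htx
  set N := normalizer (D : Set G) with hN
  have hdvd : ∀ {v : ℕ}, v.Prime → Rigid D v → (∃ x ∈ D, IsL v x ∧ x ∉ center G) → v ∣ D.index →
      v ∣ Nat.card (N ⧸ D.subgroupOf N) := by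
    intro v hv hV hvx hvi
    obtain ⟨y, hy, hyD, i, hi⟩ := hV.exists_normalizing hv hvx hvi
    have h1 : orderOf ((⟨y, hy⟩ : N) : N ⧸ D.subgroupOf N) ∣ v ^ i := by
      have := orderOf_map_dvd (QuotientGroup.mk' (D.subgroupOf N)) (⟨y, hy⟩ : N)
      rwa [Subgroup.orderOf_mk, hi] at this
    obtain ⟨j, -, hj⟩ := (Nat.dvd_prime_pow hv).1 h1
    have hj0 : j ≠ 0 := by
      rintro rfl
      rw [pow_zero, orderOf_eq_one_iff, QuotientGroup.eq_one_iff] at hj
      exact hyD hj
    exact (dvd_pow_self v hj0).trans (hj ▸ orderOf_dvd_natCard _)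
  obtain ⟨e, v, l, hv, hl, hlv, hoe⟩ := exists_orderOf_mul hst hVs hρ hVt hσ
    (hdvd hs hS hsx hsi) (hdvd ht hT htx hti)
  obtain ⟨⟨x, hx⟩, rfl⟩ := QuotientGroup.mk_surjective e
  have hvp : v.Prime := by rcases hv with rfl | rfl <;> assumption
  have := Fact.mk hvp
  obtain ⟨a, c, hxo, hc, hu'⟩ := GStructB.PElements.exists_split v x
  have hnot : ∀ k : ℕ, ¬ v * l ∣ k → x ^ k ∉ D := fun k hk hmem => hk (hoe ▸
    orderOf_dvd_of_pow_eq_one (by rw [← QuotientGroup.mk_pow, QuotientGroup.eq_one_iff]; exact hmem))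
  have hgD : x ^ c ∉ D := hnot c fun hd => hc ((dvd_mul_right v l).trans hd)
  have hkD : x ^ v ^ a ∉ D := hnot _ fun hd => hlv
    ((Nat.prime_dvd_prime_iff_eq hl hvp).1 (hl.dvd_of_dvd_pow ((dvd_mul_left l v).trans hd)))
  have hcop : (orderOf (x ^ c)).Coprime (orderOf (x ^ v ^ a)) := by
    rw [hu']
    refine Nat.Coprime.pow_left a ((Nat.Coprime.coprime_dvd_right ?_ (hvp.coprime_iff_not_dvd.2 hc)))
    exact orderOf_dvd_of_pow_eq_one (by rw [← pow_mul, ← hxo, pow_orderOf_eq_one])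
  have hcomm : Commute (x ^ c) (x ^ v ^ a) := Commute.pow_pow_self x _ _
  have hX : Rigid D v ∧ ∃ x ∈ D, IsL v x ∧ x ∉ center G := by
    rcases hv with rfl | rfl
    exacts [⟨hS, hsx⟩, ⟨hT, htx⟩]
  exact hX.1.no_mixed hvp hX.2 (pow_mem hx _) ⟨a, hu'⟩ hgD (pow_mem hx _) hkD hcop hcomm

end Cfsg.Agent.ThreeSizes
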